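import Cfsg.Agent.Fi24Mult44.Iface
import Cfsg.Agent.SporB.Fi24Abel
import Cfsg.Prelude.Def_KGroupFacts

/-!
The stem extension of `Fi24'` from twelve lifted letters, and a potential criterion for the last relator.
-/

set_option autoImplicit false
set_option maxRecDepth 100000
set_option linter.unusedSectionVars false

namespace Cfsg.Agent.Fi24Mult44

open Cfsg.Agent.CosetEnum Cfsg.Agent.Exist24
open scoped commutatorElement
open Cfsg.Agent.CosetEnum.Fi24 (mv phi pres phi_val phi_injective)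

/-- The word of the Coxeter element. -/
def cWord : List ℕ := [3, 2, 1, 0, 11, 10, 3, 4, 5, 6, 7, 3, 8, 9]

theorem zWord_eq : zWord = repWord cWord 17 := rfl

theorem tr_apply (a : ZMod 3) (y : Y) : tr a y = (y.1, y.2 + a) := rfl

theorem tr_mul (a b : ZMod 3) : tr a * tr b = tr (a + b) :=
  Equiv.ext fun y => Prod.ext rfl (show y.2 + b + a = y.2 + (a + b) by ring)

theorem tr_zero : tr 0 = 1 := Equiv.ext fun y => Prod.ext rfl (add_zero y.2)

theorem tr_inv (a : ZMod 3) : (tr a)⁻¹ = tr (-a) :=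
  inv_eq_of_mul_eq_one_right (by rw [tr_mul, add_neg_cancel, tr_zero])

theorem tr_pow (a : ZMod 3) : ∀ n : ℕ, tr a ^ n = tr (n • a)
  | 0 => by rw [pow_zero, zero_nsmul, tr_zero]
  | n + 1 => by rw [pow_succ, tr_pow a n, tr_mul, succ_nsmul]

variable (H : Checked)

/-- The map of a letter on the fibres over the model. -/
noncomputable def step (v : ℕ → X → ZMod 3) (l : ℕ) (y : Y) : Y := (mv H l y.1, -y.2 + v l y.1)

variable {H}

/-- The letters of the cover from the voltages. -/
noncomputable def mkP (v : ℕ → X → ZMod 3) (sym : ∀ l x, v l (mv H l x) = v l x) (l : ℕ) : Equiv.Perm Y :=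
  Function.Involutive.toPerm (step H v l) fun y => by
    refine Prod.ext ?_ ?_
    · show mv H l (mv H l y.1) = y.1
      rw [← Equiv.Perm.mul_apply, Fi24.mv_sq]; rfl
    · show -(-y.2 + v l y.1) + v l (mv H l y.1) = y.2
      rw [sym]; ring

/-- The last word from a potential on the Coxeter element. -/
theorem z_of_cox {P : ℕ → Equiv.Perm Y} {pot : X → ZMod 3} {e : ZMod 3}
    (cox : ∀ y : Y, evalWord P cWord y =
      (evalWord (mv H) cWord y.1, y.2 + pot (evalWord (mv H) cWord y.1) - pot y.1 + e)) :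
    evalWord P zWord = tr ((17 : ℕ) • e) := by
  have hpow : ∀ (n : ℕ) (y : Y), (evalWord P cWord ^ n) y =
      ((evalWord (mv H) cWord ^ n) y.1,
        y.2 + pot ((evalWord (mv H) cWord ^ n) y.1) - pot y.1 + n • e) := by
    intro n
    induction n with
    | zero => intro y; simp
    | succ n ih =>
      intro y
      rw [pow_succ', pow_succ', Equiv.Perm.mul_apply, ih y, cox, Equiv.Perm.mul_apply]
      refine Prod.ext rfl ?_
      show _ = _
      simp only [succ_nsmul]
      ring
  refine Equiv.ext fun y => ?_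
  have hz : evalWord (mv H) cWord ^ 17 = 1 := by rw [← evalWord_repWord]; exact Fi24.z_model H
  rw [zWord_eq, evalWord_repWord, hpow, hz, tr_apply]
  exact Prod.ext rfl (by show _ = _; simp only [Equiv.Perm.one_apply]; ring)

/-- Twisted letters square to one and invert the translations. -/
theorem step_inverts (v : ℕ → X → ZMod 3) (sym : ∀ l x, v l (mv H l x) = v l x) (l : ℕ) (a : ZMod 3) :
    mkP v sym l * tr a * mkP v sym l = tr (-a) := by
  refine Equiv.ext fun y => ?_
  show step H v l (tr a (step H v l y)) = tr (-a) y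
  refine Prod.ext ?_ ?_
  · show mv H l (mv H l y.1) = y.1
    rw [← Equiv.Perm.mul_apply, Fi24.mv_sq]; rfl
  · show -(-y.2 + v l y.1 + a) + v l (mv H l y.1) = y.2 + -a
    rw [sym]; ring

namespace Lifted

variable (V : Lifted H)

theorem inv_y (l : ℕ) : (V.y l)⁻¹ = V.y l := inv_eq_of_mul_eq_one_right (V.sq l)

theorem conj_tr {l : ℕ} (hl : l < 12) (a : ZMod 3) : V.y l * tr a * (V.y l)⁻¹ = tr (-a) := by
  rw [V.inv_y]; exact V.inverts l hl a

/-- The group of the cover. -/
noncomputable def GY : Subgroup (Equiv.Perm Y) := Subgroup.closure (V.y '' Set.Iio 12)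

/-- A letter in the cover. -/
noncomputable def lt' (l : ℕ) : V.GY :=
  if h : l < 12 then ⟨V.y l, Subgroup.subset_closure ⟨l, h, rfl⟩⟩ else 1

theorem lt'_coe {l : ℕ} (h : l < 12) : (V.lt' l : Equiv.Perm Y) = V.y l := by rw [lt', dif_pos h]

theorem lt'_word : ∀ {W : List ℕ}, (∀ l ∈ W, l < 12) →
    ((evalWord V.lt' W : V.GY) : Equiv.Perm Y) = evalWord V.y W
  | [], _ => rfl
  | l :: W, h => by
    rw [evalWord, evalWord, Subgroup.coe_mul, lt'_word fun x hx => h x (List.mem_cons_of_mem _ hx),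
      V.lt'_coe (h l List.mem_cons_self)]

theorem closure_lt' : Subgroup.closure (V.lt' '' Set.Iio 12) = ⊤ := by
  apply Subgroup.map_injective V.GY.subtype_injective
  rw [MonoidHom.map_closure, Set.image_image, ← MonoidHom.range_eq_map, Subgroup.range_subtype]
  show _ = Subgroup.closure (V.y '' Set.Iio 12)
  congr 1
  ext p
  constructor
  · rintro ⟨l, hl, rfl⟩; exact ⟨l, hl, (V.lt'_coe hl).symm⟩
  · rintro ⟨l, hl, rfl⟩; exact ⟨l, hl, V.lt'_coe hl⟩

theorem zWord_lt : ∀ l ∈ zWord, l < 12 := by decide +kernel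

/-- The generator of the kernel. -/
noncomputable def tau : V.GY := evalWord V.lt' zWord

theorem tau_coe : (V.tau : Equiv.Perm Y) = tr V.c := by
  rw [tau, V.lt'_word zWord_lt]; exact V.z

theorem tau_ne : V.tau ≠ 1 := by
  intro h
  have h2 := congrArg (fun p : V.GY => (p : Equiv.Perm Y) (Sum.inl (), 0)) h
  simp only [tau_coe, tr_apply] at h2
  exact V.c_ne (by simpa using congrArg Prod.snd h2)

theorem tau_order : orderOf V.tau = 3 := by
  have h : ∀ a : ZMod 3, (3 : ℕ) • a = 0 := by decide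
  haveI : Fact (Nat.Prime 3) := ⟨Nat.prime_three⟩
  refine orderOf_eq_prime (Subtype.ext ?_) V.tau_ne
  rw [SubmonoidClass.coe_pow, tau_coe, tr_pow]
  rw [h, tr_zero]; rfl

theorem conj_letter {l : ℕ} (hl : l < 12) : V.lt' l * V.tau * (V.lt' l)⁻¹ = V.tau⁻¹ := by
  apply Subtype.ext
  rw [Subgroup.coe_mul, Subgroup.coe_mul, Subgroup.coe_inv, Subgroup.coe_inv, V.lt'_coe hl, tau_coe,
    V.conj_tr hl, tr_inv]

theorem conj_tau (g : V.GY) : g * V.tau * g⁻¹ = V.tau ∨ g * V.tau * g⁻¹ = V.tau⁻¹ := by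
  have hmem : g ∈ Subgroup.closure (V.lt' '' Set.Iio 12) := V.closure_lt' ▸ Subgroup.mem_top g
  induction hmem using Subgroup.closure_induction with
  | mem x hx => obtain ⟨l, hl, rfl⟩ := hx; exact Or.inr (V.conj_letter hl)
  | one => left; simp
  | mul a b _ _ ha hb =>
    have e : a * b * V.tau * (a * b)⁻¹ = a * (b * V.tau * b⁻¹) * a⁻¹ := by group
    rw [e]
    rcases hb with hb | hb <;> rw [hb]
    · exact ha
    · rw [show a * V.tau⁻¹ * a⁻¹ = (a * V.tau * a⁻¹)⁻¹ by group]
      rcases ha with ha | ha <;> rw [ha]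
      · exact Or.inr rfl
      · exact Or.inl (inv_inv _)
  | inv a _ ha =>
    have e : ∀ u : V.GY, a * V.tau * a⁻¹ = u → a⁻¹ * u * a⁻¹⁻¹ = V.tau := fun u hu => by rw [← hu]; group
    rcases ha with ha | ha
    · exact Or.inl (e _ ha)
    · right
      have h := congrArg (·⁻¹) (e _ ha)
      simpa [mul_inv_rev, mul_assoc] using h

instance normal_tau : (Subgroup.zpowers V.tau).Normal := ⟨fun n hn g => by
  obtain ⟨k, rfl⟩ := Subgroup.mem_zpowers_iff.1 hn
  rw [show g * V.tau ^ k * g⁻¹ = (g * V.tau * g⁻¹) ^ k from conj_zpow.symm]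
  rcases V.conj_tau g with h | h <;> rw [h]
  · exact Subgroup.zpow_mem _ (Subgroup.mem_zpowers _) k
  · exact Subgroup.zpow_mem _ (inv_mem (Subgroup.mem_zpowers _)) k⟩

/-- The values of the generators in the cover. -/
noncomputable def vY (x : Cfsg.Spor.Fi24.Gen) : V.GY := V.lt' (Fi24.genList.idxOf x)

theorem vY_word : ∀ {W : List ℕ}, (∀ l ∈ W, l < 12) →
    evalWord (letterVal pres.gens V.vY) W = evalWord V.lt' W
  | [], _ => rfl
  | l :: W, h => by
    have hl : l < pres.gens.length := h l List.mem_cons_self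
    rw [evalWord, evalWord, vY_word (fun x hx => h x (List.mem_cons_of_mem _ hx)), letterVal_of_lt _ _ hl, vY]
    congr 2
    exact Fi24.nodup.idxOf_getElem l hl

theorem letters12 : ∀ W ∈ pres.relWords, ∀ l ∈ W, l < 12 := fun W hW l hl =>
  Nat.le_of_ble_eq_true (List.all_eq_true.mp
    ((Bool.and_eq_true _ _).mp (List.all_eq_true.mp Fi24.rel_cover W hW)).1 l hl)

theorem rel_one {W : List ℕ} (hW : W ∈ pres.relWords) (hne : W ≠ zWord) : evalWord V.lt' W = 1 := by
  apply Subtype.ext
  rw [V.lt'_word (letters12 W hW)]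
  exact V.rel W hW hne

/-- The values modulo the kernel. -/
noncomputable def vQ (x : Cfsg.Spor.Fi24.Gen) : V.GY ⧸ Subgroup.zpowers V.tau := QuotientGroup.mk (V.vY x)

theorem rels_Q : ∀ W ∈ pres.relWords, evalWord (letterVal pres.gens V.vQ) W = 1 := by
  intro W hW
  have hmap : ∀ {W : List ℕ}, (∀ l ∈ W, l < 12) → evalWord (letterVal pres.gens V.vQ) W =
      QuotientGroup.mk' (Subgroup.zpowers V.tau) (evalWord (letterVal pres.gens V.vY) W) := by
    intro W h
    induction W with
    | nil => exact (map_one _).symm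
    | cons l W ih =>
      have hl : l < pres.gens.length := h l List.mem_cons_self
      rw [evalWord, evalWord, map_mul, ih fun x hx => h x (List.mem_cons_of_mem _ hx),
        letterVal_of_lt _ _ hl, letterVal_of_lt _ _ hl]
      rfl
  have hl := letters12 W hW
  rw [hmap hl, V.vY_word hl]
  refine (QuotientGroup.eq_one_iff _).mpr ?_
  rcases eq_or_ne W zWord with rfl | h
  · exact Subgroup.mem_zpowers V.tau
  · rw [V.rel_one hW h]; exact one_mem _

/-- The presented group onto the cover modulo its kernel. -/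
noncomputable def q : pres.Gp →* V.GY ⧸ Subgroup.zpowers V.tau :=
  PresentedGroup.toGroup (pres.kills V.vQ V.rels_Q)

theorem q_val {l : ℕ} (hl : l < 12) : V.q (pres.val l) = QuotientGroup.mk (V.lt' l) := by
  have hl' : l < pres.gens.length := hl
  rw [InvPres.val, letterVal_of_lt _ _ hl', q, PresentedGroup.toGroup.of, vQ, vY]
  congr 2
  exact Fi24.nodup.idxOf_getElem l hl'

/-- The permutations of the points under the members of the cover. -/
theorem base_exists (g : V.GY) : ∃ b : Equiv.Perm X, ∀ y : Y, ((g : Equiv.Perm Y) y).1 = b y.1 := by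
  have hmem : g ∈ Subgroup.closure (V.lt' '' Set.Iio 12) := V.closure_lt' ▸ Subgroup.mem_top g
  induction hmem using Subgroup.closure_induction with
  | mem x hx =>
    obtain ⟨l, hl, rfl⟩ := hx
    exact ⟨mv H l, fun y => by rw [V.lt'_coe hl, V.fst l hl]⟩
  | one => exact ⟨1, fun _ => rfl⟩
  | mul a b _ _ ha hb =>
    obtain ⟨p, hp⟩ := ha
    obtain ⟨r, hr⟩ := hb
    exact ⟨p * r, fun y => by rw [Subgroup.coe_mul, Equiv.Perm.mul_apply, hp, hr]; rfl⟩
  | inv a _ ha =>
    obtain ⟨p, hp⟩ := ha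
    refine ⟨p⁻¹, fun y => p.injective ?_⟩
    rw [← hp, Subgroup.coe_inv, ← Equiv.Perm.mul_apply, ← Equiv.Perm.mul_apply p, mul_inv_cancel,
      mul_inv_cancel]
    rfl

/-- The action on the points. -/
noncomputable def base : V.GY →* Equiv.Perm X where
  toFun g := (V.base_exists g).choose
  map_one' := Equiv.ext fun x => ((V.base_exists 1).choose_spec (x, 0)).symm
  map_mul' a b := Equiv.ext fun x => by
    rw [← (V.base_exists (a * b)).choose_spec (x, 0), Subgroup.coe_mul, Equiv.Perm.mul_apply,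
      (V.base_exists a).choose_spec, (V.base_exists b).choose_spec]
    rfl

theorem base_spec (g : V.GY) (y : Y) : ((g : Equiv.Perm Y) y).1 = V.base g y.1 :=
  (V.base_exists g).choose_spec y

theorem base_tau : Subgroup.zpowers V.tau ≤ V.base.ker := by
  rw [Subgroup.zpowers_le, MonoidHom.mem_ker]
  refine Equiv.ext fun x => ?_
  rw [← V.base_spec V.tau (x, 0), tau_coe]
  rfl

theorem base_letter {l : ℕ} (hl : l < 12) : V.base (V.lt' l) = mv H l :=
  Equiv.ext fun x => by rw [← V.base_spec (V.lt' l) (x, 0), V.lt'_coe hl, V.fst l hl]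

theorem q_bijective : Function.Bijective V.q := by
  have hcomp : (QuotientGroup.lift _ V.base V.base_tau).comp V.q = phi H := by
    refine PresentedGroup.ext fun x => ?_
    obtain ⟨l, hl, rfl⟩ := List.getElem_of_mem (pres.all_gens x)
    have hv : pres.val l = PresentedGroup.of pres.gens[l] := letterVal_of_lt _ _ hl
    rw [← hv, MonoidHom.comp_apply, V.q_val hl, phi_val H hl, QuotientGroup.lift_mk, V.base_letter hl]
  refine ⟨fun a b h => phi_injective H ?_, ?_⟩
  · rw [← hcomp, MonoidHom.comp_apply, MonoidHom.comp_apply, h]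
  · rw [← MonoidHom.range_eq_top, eq_top_iff]
    rintro z -
    obtain ⟨g, rfl⟩ := QuotientGroup.mk_surjective z
    have hle : Subgroup.closure (V.lt' '' Set.Iio 12) ≤
        V.q.range.comap (QuotientGroup.mk' (Subgroup.zpowers V.tau)) := by
      rw [Subgroup.closure_le]
      rintro _ ⟨l, hl, rfl⟩
      exact ⟨pres.val l, V.q_val hl⟩
    exact hle (V.closure_lt' ▸ Subgroup.mem_top g)

/-- The cover onto the presented group. -/
noncomputable def psi : V.GY →* Cfsg.Spor.Fi24 :=
  (MulEquiv.ofBijective V.q V.q_bijective).symm.toMonoidHom.comp (QuotientGroup.mk' (Subgroup.zpowers V.tau))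

theorem psi_surjective : Function.Surjective V.psi :=
  (MulEquiv.ofBijective V.q V.q_bijective).symm.surjective.comp (QuotientGroup.mk'_surjective _)

theorem psi_ker : V.psi.ker = Subgroup.zpowers V.tau := by
  ext g
  rw [MonoidHom.mem_ker, ← QuotientGroup.eq_one_iff]
  show (MulEquiv.ofBijective V.q V.q_bijective).symm (QuotientGroup.mk g) = 1 ↔ _
  exact map_eq_one_iff _ (MulEquiv.ofBijective V.q V.q_bijective).symm.injective

theorem tau_mem_commutator : V.tau ∈ commutator V.GY := by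
  have h1 : V.lt' 0 * V.tau * (V.lt' 0)⁻¹ * V.tau⁻¹ ∈ commutator V.GY := by
    rw [commutator_def]
    exact Subgroup.commutator_mem_commutator (Subgroup.mem_top _) (Subgroup.mem_top _)
  rw [V.conj_letter (by omega)] at h1
  have h2 : V.tau⁻¹ * V.tau⁻¹ = V.tau := by
    have h3 := pow_orderOf_eq_one V.tau
    rw [V.tau_order] at h3
    rw [← mul_inv_rev, inv_eq_iff_mul_eq_one, ← pow_two, ← pow_succ]
    exact h3
  rwa [h2] at h1

/-- The cover of the derived subgroup. -/
noncomputable def sigma : commutator V.GY →* Cfsg.Spor.Fi24' :=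
  (V.psi.comp (commutator V.GY).subtype).codRestrict (commutator Cfsg.Spor.Fi24) fun g => by
    have h : V.psi g ∈ (commutator V.GY).map V.psi := Subgroup.mem_map_of_mem _ g.2
    have h2 : (commutator V.GY).map V.psi ≤ commutator Cfsg.Spor.Fi24 := by
      rw [map_commutator_eq]
      exact Subgroup.commutator_mono le_top le_top
    exact h2 h

theorem sigma_surjective : Function.Surjective V.sigma := by
  rintro ⟨x, hx⟩
  have h : (commutator V.GY).map V.psi = commutator Cfsg.Spor.Fi24 := by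
    rw [map_commutator_eq, MonoidHom.range_eq_top.mpr V.psi_surjective, commutator_def]
  rw [← h] at hx
  obtain ⟨g, hg, rfl⟩ := hx
  exact ⟨⟨g, hg⟩, Subtype.ext rfl⟩

theorem sigma_ker : V.sigma.ker = (Subgroup.zpowers V.tau).subgroupOf (commutator V.GY) := by
  ext g
  rw [MonoidHom.mem_ker, Subgroup.mem_subgroupOf, ← V.psi_ker, MonoidHom.mem_ker, Subtype.ext_iff]
  rfl

theorem card_ker : Nat.card V.sigma.ker = 3 := by
  rw [V.sigma_ker, Nat.card_congr (Subgroup.subgroupOfEquivOfLe
    (Subgroup.zpowers_le.2 V.tau_mem_commutator)).toEquiv, Nat.card_zpowers, V.tau_order]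

theorem commutator_le_centralizer : commutator V.GY ≤ Subgroup.centralizer {V.tau} := by
  rw [commutator_def, Subgroup.commutator_le]
  intro a _ b _
  rw [Subgroup.mem_centralizer_singleton_iff]
  have ea := V.conj_tau a
  have eb := V.conj_tau b
  have key : ∀ g : V.GY, g * V.tau * g⁻¹ = V.tau ∨ g * V.tau * g⁻¹ = V.tau⁻¹ →
      (g * V.tau * g⁻¹ = V.tau ∧ g⁻¹ * V.tau * g = V.tau) ∨
      (g * V.tau * g⁻¹ = V.tau⁻¹ ∧ g⁻¹ * V.tau * g = V.tau⁻¹) := by
    intro g h
    rcases h with h | h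
    · refine Or.inl ⟨h, ?_⟩
      conv_lhs => rw [← h]
      group
    · refine Or.inr ⟨h, ?_⟩
      have h2 : g * V.tau⁻¹ * g⁻¹ = V.tau := by
        rw [show g * V.tau⁻¹ * g⁻¹ = (g * V.tau * g⁻¹)⁻¹ by group, h, inv_inv]
      conv_lhs => rw [← h2]
      group
  have hi : ∀ g u : V.GY, g * u⁻¹ * g⁻¹ = (g * u * g⁻¹)⁻¹ := fun g u => by group
  have e : ⁅a, b⁆ * V.tau * ⁅a, b⁆⁻¹ = V.tau := by
    rw [commutatorElement_def,
      show a * b * a⁻¹ * b⁻¹ * V.tau * (a * b * a⁻¹ * b⁻¹)⁻¹ =
        a * (b * (a⁻¹ * (b⁻¹ * V.tau * b) * a⁻¹⁻¹) * b⁻¹) * a⁻¹ by group, inv_inv]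
    rcases key a ea with ⟨a1, a2⟩ | ⟨a1, a2⟩ <;> rcases key b eb with ⟨b1, b2⟩ | ⟨b1, b2⟩
    · rw [b2, a2, b1, a1]
    · rw [b2, show a⁻¹ * V.tau⁻¹ * a = (a⁻¹ * V.tau * a)⁻¹ by group, a2, hi, b1, inv_inv, a1]
    · rw [b2, a2, hi, b1, hi, a1, inv_inv]
    · rw [b2, show a⁻¹ * V.tau⁻¹ * a = (a⁻¹ * V.tau * a)⁻¹ by group, a2, inv_inv, b1, hi, a1, inv_inv]
  exact mul_inv_eq_iff_eq_mul.mp e

theorem ker_central : V.sigma.ker ≤ Subgroup.center (commutator V.GY) := by
  intro x hx
  rw [V.sigma_ker, Subgroup.mem_subgroupOf] at hx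
  obtain ⟨k, hk⟩ := Subgroup.mem_zpowers_iff.1 hx
  refine Subgroup.mem_center_iff.2 fun g => Subtype.ext ?_
  rw [Subgroup.coe_mul, Subgroup.coe_mul, ← hk]
  exact (Commute.zpow_right (Subgroup.mem_centralizer_singleton_iff.1 (V.commutator_le_centralizer g.2)) k).eq

/-- In a group of order dividing six, commuting involutions inverting a nontrivial element of order three agree. -/
theorem eq_of_commute {A : Type*} [Group A] [Finite A] (h6 : Nat.card A ∣ 6) {t a b : A} (ht : t ≠ 1)
    (ha2 : a * a = 1) (hb2 : b * b = 1) (hat : a * t * a⁻¹ = t⁻¹) (hbt : b * t * b⁻¹ = t⁻¹)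
    (h3 : t ^ 3 = 1) (hab : Commute a b) : a = b := by
  by_contra hne
  have ha1 : a ≠ 1 := by
    rintro rfl
    rw [one_mul, inv_one, mul_one] at hat
    have h2 : t * t = 1 := mul_eq_one_iff_eq_inv.2 hat
    exact ht (by rw [← h3, pow_succ, pow_two, h2, one_mul])
  have hb1 : b ≠ 1 := by
    rintro rfl
    rw [one_mul, inv_one, mul_one] at hbt
    have h2 : t * t = 1 := mul_eq_one_iff_eq_inv.2 hbt
    exact ht (by rw [← h3, pow_succ, pow_two, h2, one_mul])
  let K : Subgroup A :=
    { carrier := {1, a, b, a * b}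
      one_mem' := Or.inl rfl
      mul_mem' := by
        intro x y hx hy
        simp only [Set.mem_insert_iff, Set.mem_singleton_iff] at hx hy ⊢
        have e1 : a * (a * b) = b := by rw [← mul_assoc, ha2, one_mul]
        have e2 : b * (a * b) = a := by rw [hab.eq, ← mul_assoc, hb2, one_mul]
        have e3 : a * b * a = b := by rw [hab.eq, mul_assoc, ha2, mul_one]
        have e4 : a * b * b = a := by rw [mul_assoc, hb2, mul_one]
        have e5 : a * b * (a * b) = 1 := by rw [← mul_assoc, e3, hb2]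
        rcases hx with rfl | rfl | rfl | rfl <;> rcases hy with rfl | rfl | rfl | rfl <;>
          simp [ha2, hb2, e1, e2, e3, e4, e5, hab.eq.symm]
      inv_mem' := by
        intro x hx
        simp only [Set.mem_insert_iff, Set.mem_singleton_iff] at hx ⊢
        rcases hx with rfl | rfl | rfl | rfl
        · simp
        · exact Or.inr (Or.inl (inv_eq_of_mul_eq_one_right ha2))
        · exact Or.inr (Or.inr (Or.inl (inv_eq_of_mul_eq_one_right hb2)))
        · refine Or.inr (Or.inr (Or.inr ?_))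
          rw [mul_inv_rev, inv_eq_of_mul_eq_one_right ha2, inv_eq_of_mul_eq_one_right hb2]
          exact hab.eq.symm }
  have hK : Nat.card K = 4 := by
    show Nat.card ↥({1, a, b, a * b} : Set A) = 4
    have h1 : a * b ≠ 1 := fun e => hne (by rw [← mul_one a, ← hb2, ← mul_assoc, e, one_mul])
    have h2 : a ≠ a * b := fun e => hb1 (mul_left_cancel (a := a) (by rw [mul_one]; exact e.symm))
    have h3' : b ≠ a * b := fun e => ha1 (mul_right_cancel (b := b) (by rw [one_mul]; exact e.symm))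
    rw [Nat.card_coe_set_eq, Set.ncard_insert_of_notMem (by simp [Ne.symm ha1, Ne.symm hb1, Ne.symm h1]),
      Set.ncard_insert_of_notMem (by simp [hne, h2]), Set.ncard_pair h3']
  have h4 : 4 ∣ 6 := hK ▸ (Subgroup.card_subgroup_dvd_card K).trans h6
  omega

theorem commute_letters {i j : ℕ} (hi : i < 12) (hj : j < 12) (hW : [i, j, i, j] ∈ pres.relWords)
    (hne : [i, j, i, j] ≠ zWord) : Commute (V.lt' i) (V.lt' j) := by
  have h := V.rel_one hW hne
  simp only [evalWord, mul_one] at h
  have qi : V.lt' i * V.lt' i = 1 := Subtype.ext (by rw [Subgroup.coe_mul, V.lt'_coe hi]; exact V.sq i)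
  have qj : V.lt' j * V.lt' j = 1 := Subtype.ext (by rw [Subgroup.coe_mul, V.lt'_coe hj]; exact V.sq j)
  show V.lt' i * V.lt' j = V.lt' j * V.lt' i
  calc V.lt' i * V.lt' j = V.lt' i * V.lt' j * 1 := (mul_one _).symm
    _ = V.lt' i * V.lt' j * (V.lt' i * (V.lt' j * (V.lt' j * V.lt' i))) := by
      rw [← mul_assoc (V.lt' j) (V.lt' j), qj, one_mul, qi]
    _ = V.lt' i * (V.lt' j * (V.lt' i * V.lt' j)) * (V.lt' j * V.lt' i) := by simp only [mul_assoc]
    _ = V.lt' j * V.lt' i := by rw [h, one_mul]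

/-- The pairs of commuting letters used to compare the images. -/
def links : List (ℕ × ℕ) :=
  [(11, 1), (11, 2), (11, 3), (11, 4), (11, 5), (11, 6), (11, 7), (11, 8), (11, 9), (10, 1), (0, 2)]

theorem links_ok : links.all (fun p => decide (p.1 < 12) && decide (p.2 < 12) &&
    decide ([p.1, p.2, p.1, p.2] ∈ pres.relWords) && decide ([p.1, p.2, p.1, p.2] ≠ zWord)) = true := by
  decide +kernel

theorem tau_mem_derived : (⟨V.tau, V.tau_mem_commutator⟩ : commutator V.GY) ∈ commutator (commutator V.GY) := by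
  haveI : Finite V.GY := inferInstance
  set Γ := commutator V.GY with hΓ
  haveI hn : ((commutator Γ).map Γ.subtype).Normal := ConjAct.normal_of_characteristic_of_normal
  set D := (commutator Γ).map Γ.subtype with hD
  have hDΓ : D ≤ Γ := Subgroup.map_subtype_le _
  have hidx : Γ.index = 2 := by
    have h1 : (commutator Cfsg.Spor.Fi24).comap V.psi = Γ := by
      have h : Γ.map V.psi = commutator Cfsg.Spor.Fi24 := by
        rw [hΓ, map_commutator_eq, MonoidHom.range_eq_top.mpr V.psi_surjective, commutator_def]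
      rw [← h, Subgroup.comap_map_eq, V.psi_ker, sup_eq_left]
      exact Subgroup.zpowers_le.2 V.tau_mem_commutator
    rw [← h1, Subgroup.index_comap_of_surjective _ V.psi_surjective]
    exact SporB.fi24_commutator_index
  have hsup : Γ ≤ D ⊔ Subgroup.zpowers V.tau := by
    haveI hs : IsSimpleGroup Cfsg.Spor.Fi24' := Fi24.fi24_prime.1
    have hperf : commutator Cfsg.Spor.Fi24' = ⊤ := by
      rcases (inferInstance : (commutator Cfsg.Spor.Fi24').Normal).eq_bot_or_eq_top with h | h
      · exfalso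
        haveI : IsMulCommutative Cfsg.Spor.Fi24' := ⟨⟨fun a b => by
          have h2 : ⁅a, b⁆ ∈ ⁅(⊤ : Subgroup Cfsg.Spor.Fi24'), (⊤ : Subgroup Cfsg.Spor.Fi24')⁆ :=
            Subgroup.commutator_mem_commutator (Subgroup.mem_top a) (Subgroup.mem_top b)
          rw [← commutator_def, h, Subgroup.mem_bot] at h2
          exact commutatorElement_eq_one_iff_commute.1 h2⟩⟩
        let I : CommGroup Cfsg.Spor.Fi24' :=
          { (inferInstance : Group Cfsg.Spor.Fi24') with
            mul_comm := fun a b => (IsMulCommutative.is_comm.comm a b) }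
        have hp : (Nat.card Cfsg.Spor.Fi24').Prime := IsSimpleGroup.prime_card
        rw [Fi24.fi24_prime.2] at hp
        rcases hp.eq_one_or_self_of_dvd 2 (by norm_num) with h' | h' <;> norm_num at h'
      · exact h
    intro g hg
    have h1 : V.sigma ⟨g, hg⟩ ∈ (commutator Γ).map V.sigma := by
      rw [map_commutator_eq, MonoidHom.range_eq_top.mpr V.sigma_surjective, ← commutator_def, hperf]
      exact Subgroup.mem_top _
    obtain ⟨d, hd, hdg⟩ := h1
    have h2 : d⁻¹ * ⟨g, hg⟩ ∈ V.sigma.ker := by rw [MonoidHom.mem_ker, map_mul, map_inv, hdg, inv_mul_cancel]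
    rw [V.sigma_ker, Subgroup.mem_subgroupOf] at h2
    have e : g = (d : V.GY) * ((d⁻¹ * ⟨g, hg⟩ : Γ) : V.GY) := by simp
    rw [e]
    exact mul_mem (Subgroup.mem_sup_left ⟨d, hd, rfl⟩) (Subgroup.mem_sup_right h2)
  by_contra hcon
  have hτD : V.tau ∉ D := by
    rintro ⟨d, hd, hdt⟩
    exact hcon ((show (⟨V.tau, V.tau_mem_commutator⟩ : Γ) = d from Subtype.ext hdt.symm) ▸ hd)
  let mk := QuotientGroup.mk' D
  haveI : Finite (V.GY ⧸ D) := Finite.of_surjective _ (QuotientGroup.mk'_surjective D)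
  have h6 : Nat.card (V.GY ⧸ D) ∣ 6 := by
    rw [← Subgroup.index_eq_card, ← Subgroup.relIndex_mul_index hDΓ, hidx]
    have h3 : D.relIndex Γ ∣ 3 := by
      have e : D ⊔ Subgroup.zpowers V.tau = Γ :=
        le_antisymm (sup_le hDΓ (Subgroup.zpowers_le.2 V.tau_mem_commutator)) hsup
      rw [← e, sup_comm, Subgroup.relIndex_sup_right]
      exact V.tau_order ▸ (Subgroup.relIndex_dvd_card D _).trans (by rw [Nat.card_zpowers])
    exact (mul_dvd_mul_right h3 2).trans (by norm_num)
  have ht : mk V.tau ≠ 1 := fun h => hτD ((QuotientGroup.eq_one_iff _).1 h)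
  have h3 : mk V.tau ^ 3 = 1 := by
    rw [← map_pow, show V.tau ^ 3 = 1 from V.tau_order ▸ pow_orderOf_eq_one V.tau, map_one]
  have hsq : ∀ l < 12, mk (V.lt' l) * mk (V.lt' l) = 1 := fun l hl => by
    rw [← map_mul, show V.lt' l * V.lt' l = 1 from
      Subtype.ext (by rw [Subgroup.coe_mul, V.lt'_coe hl]; exact V.sq l), map_one]
  have hinv : ∀ l < 12, mk (V.lt' l) * mk V.tau * (mk (V.lt' l))⁻¹ = (mk V.tau)⁻¹ := fun l hl => by
    rw [← map_inv, ← map_inv, ← map_mul, ← map_mul, V.conj_letter hl]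
  have heq : ∀ p ∈ links, mk (V.lt' p.1) = mk (V.lt' p.2) := by
    intro p hp
    have h := List.all_eq_true.mp links_ok p hp
    simp only [Bool.and_eq_true, decide_eq_true_eq] at h
    exact eq_of_commute h6 ht (hsq _ h.1.1.1) (hsq _ h.1.1.2) (hinv _ h.1.1.1) (hinv _ h.1.1.2) h3
      ((V.commute_letters h.1.1.1 h.1.1.2 h.1.2 h.2).map mk)
  have hall : ∀ l < 12, mk (V.lt' l) = mk (V.lt' 11) := by
    intro l hl
    have q : ∀ j, (11, j) ∈ links → mk (V.lt' j) = mk (V.lt' 11) := fun j hj => (heq _ hj).symm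
    interval_cases l
    · exact (heq (0, 2) (by decide)).trans (q 2 (by decide))
    all_goals first
      | exact q _ (by decide)
      | exact rfl
      | exact (heq (10, 1) (by decide)).trans (q 1 (by decide))
  have hcyc : mk V.tau ∈ Subgroup.zpowers (mk (V.lt' 11)) := by
    have hle : (⊤ : Subgroup V.GY).map mk ≤ Subgroup.zpowers (mk (V.lt' 11)) := by
      rw [← V.closure_lt', MonoidHom.map_closure, Subgroup.closure_le]
      rintro _ ⟨_, ⟨l, hl, rfl⟩, rfl⟩
      rw [hall l hl]
      exact Subgroup.mem_zpowers _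
    exact hle ⟨V.tau, Subgroup.mem_top _, rfl⟩
  obtain ⟨k, hk⟩ := Subgroup.mem_zpowers_iff.1 hcyc
  have hc : Commute (mk (V.lt' 11)) (mk V.tau) := hk ▸ (Commute.refl _).zpow_right k
  have h := hinv 11 (by omega)
  rw [hc.eq, mul_inv_cancel_right] at h
  refine ht ?_
  calc mk V.tau = mk V.tau ^ 3 * ((mk V.tau) * (mk V.tau))⁻¹ := by group
    _ = 1 := by rw [h3]; nth_rewrite 2 [h]; simp

/-- The stem extension of `Fi24'` with kernel of order three. -/
theorem stem (V : Lifted H) : ∃ (Γ : Type) (_ : Group Γ) (_ : Finite Γ) (σ : Γ →* Cfsg.Spor.Fi24'),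
    Cfsg.IsStemExtension σ ∧ Nat.card σ.ker = 3 := by
  haveI : Finite V.GY := inferInstance
  refine ⟨commutator V.GY, inferInstance, inferInstance, V.sigma,
    ⟨V.sigma_surjective, V.ker_central, ?_⟩, V.card_ker⟩
  intro x hx
  rw [V.sigma_ker, Subgroup.mem_subgroupOf] at hx
  obtain ⟨k, hk⟩ := Subgroup.mem_zpowers_iff.1 hx
  have e : x = (⟨V.tau, V.tau_mem_commutator⟩ : commutator V.GY) ^ k :=
    Subtype.ext (by rw [SubgroupClass.coe_zpow]; exact hk.symm)
  rw [e]
  exact Subgroup.zpow_mem _ V.tau_mem_derived k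

end Lifted

/-- The lifted letters give the triple cover. -/
theorem cover_of_lifted {H : Checked} (L : Lifted H) : ∃ (Γ : Type) (_ : Group Γ) (_ : Finite Γ)
    (σ : Γ →* Cfsg.Spor.Fi24'), Cfsg.IsStemExtension σ ∧ Nat.card σ.ker = 3 := L.stem

end Cfsg.Agent.Fi24Mult44
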