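import Cfsg.Agent.Fi24Mult44.Defs
import Cfsg.Agent.Fi24Mult44.Check.Vs4
import Cfsg.Agent.Fi24Mult44.Check.Vw37
import Cfsg.Agent.Fi24Mult44.Check.Vw38
import Cfsg.Agent.Fi24Mult44.Check.Vw39
import Cfsg.Agent.Fi24Mult44.Check.Vs0
import Cfsg.Agent.Fi24Mult44.Check.Vs1
import Cfsg.Agent.Fi24Mult44.Check.Vs2
import Cfsg.Agent.Fi24Mult44.Check.Vs3

set_option autoImplicit false
set_option maxRecDepth 100000

namespace Cfsg.Agent.Fi24Mult44
open Cfsg.Agent.CosetEnum

theorem vchecked : VChecked where
  pair := fun i hi => by
    rcases Nat.lt_or_ge i 1212 with h | h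
    · exact allRange_spec vpChunk0 i (by omega) (by omega)
    rcases Nat.lt_or_ge i 2562 with h | h
    · exact allRange_spec vpChunk1 i (by omega) (by omega)
    rcases Nat.lt_or_ge i 3969 with h | h
    · exact allRange_spec vpChunk2 i (by omega) (by omega)
    rcases Nat.lt_or_ge i 5415 with h | h
    · exact allRange_spec vpChunk3 i (by omega) (by omega)
    rcases Nat.lt_or_ge i 6891 with h | h
    · exact allRange_spec vpChunk4 i (by omega) (by omega)
    rcases Nat.lt_or_ge i 8390 with h | h
    · exact allRange_spec vpChunk5 i (by omega) (by omega)
    rcases Nat.lt_or_ge i 9910 with h | h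
    · exact allRange_spec vpChunk6 i (by omega) (by omega)
    rcases Nat.lt_or_ge i 11448 with h | h
    · exact allRange_spec vpChunk7 i (by omega) (by omega)
    rcases Nat.lt_or_ge i 13001 with h | h
    · exact allRange_spec vpChunk8 i (by omega) (by omega)
    rcases Nat.lt_or_ge i 14567 with h | h
    · exact allRange_spec vpChunk9 i (by omega) (by omega)
    rcases Nat.lt_or_ge i 16147 with h | h
    · exact allRange_spec vpChunk10 i (by omega) (by omega)
    rcases Nat.lt_or_ge i 17738 with h | h
    · exact allRange_spec vpChunk11 i (by omega) (by omega)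
    rcases Nat.lt_or_ge i 19339 with h | h
    · exact allRange_spec vpChunk12 i (by omega) (by omega)
    rcases Nat.lt_or_ge i 20951 with h | h
    · exact allRange_spec vpChunk13 i (by omega) (by omega)
    rcases Nat.lt_or_ge i 22572 with h | h
    · exact allRange_spec vpChunk14 i (by omega) (by omega)
    rcases Nat.lt_or_ge i 24201 with h | h
    · exact allRange_spec vpChunk15 i (by omega) (by omega)
    rcases Nat.lt_or_ge i 25838 with h | h
    · exact allRange_spec vpChunk16 i (by omega) (by omega)
    rcases Nat.lt_or_ge i 27484 with h | h
    · exact allRange_spec vpChunk17 i (by omega) (by omega)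
    rcases Nat.lt_or_ge i 29136 with h | h
    · exact allRange_spec vpChunk18 i (by omega) (by omega)
    rcases Nat.lt_or_ge i 30796 with h | h
    · exact allRange_spec vpChunk19 i (by omega) (by omega)
    rcases Nat.lt_or_ge i 32462 with h | h
    · exact allRange_spec vpChunk20 i (by omega) (by omega)
    rcases Nat.lt_or_ge i 34135 with h | h
    · exact allRange_spec vpChunk21 i (by omega) (by omega)
    rcases Nat.lt_or_ge i 35814 with h | h
    · exact allRange_spec vpChunk22 i (by omega) (by omega)
    rcases Nat.lt_or_ge i 37498 with h | h
    · exact allRange_spec vpChunk23 i (by omega) (by omega)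
    rcases Nat.lt_or_ge i 39188 with h | h
    · exact allRange_spec vpChunk24 i (by omega) (by omega)
    rcases Nat.lt_or_ge i 40884 with h | h
    · exact allRange_spec vpChunk25 i (by omega) (by omega)
    rcases Nat.lt_or_ge i 42585 with h | h
    · exact allRange_spec vpChunk26 i (by omega) (by omega)
    rcases Nat.lt_or_ge i 44291 with h | h
    · exact allRange_spec vpChunk27 i (by omega) (by omega)
    rcases Nat.lt_or_ge i 46002 with h | h
    · exact allRange_spec vpChunk28 i (by omega) (by omega)
    rcases Nat.lt_or_ge i 47717 with h | h
    · exact allRange_spec vpChunk29 i (by omega) (by omega)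
    rcases Nat.lt_or_ge i 49437 with h | h
    · exact allRange_spec vpChunk30 i (by omega) (by omega)
    rcases Nat.lt_or_ge i 51162 with h | h
    · exact allRange_spec vpChunk31 i (by omega) (by omega)
    rcases Nat.lt_or_ge i 52890 with h | h
    · exact allRange_spec vpChunk32 i (by omega) (by omega)
    rcases Nat.lt_or_ge i 54623 with h | h
    · exact allRange_spec vpChunk33 i (by omega) (by omega)
    rcases Nat.lt_or_ge i 56361 with h | h
    · exact allRange_spec vpChunk34 i (by omega) (by omega)
    rcases Nat.lt_or_ge i 58102 with h | h
    · exact allRange_spec vpChunk35 i (by omega) (by omega)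
    rcases Nat.lt_or_ge i 59847 with h | h
    · exact allRange_spec vpChunk36 i (by omega) (by omega)
    rcases Nat.lt_or_ge i 61595 with h | h
    · exact allRange_spec vpChunk37 i (by omega) (by omega)
    rcases Nat.lt_or_ge i 63348 with h | h
    · exact allRange_spec vpChunk38 i (by omega) (by omega)
    rcases Nat.lt_or_ge i 65104 with h | h
    · exact allRange_spec vpChunk39 i (by omega) (by omega)
    rcases Nat.lt_or_ge i 66863 with h | h
    · exact allRange_spec vpChunk40 i (by omega) (by omega)
    rcases Nat.lt_or_ge i 68626 with h | h
    · exact allRange_spec vpChunk41 i (by omega) (by omega)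
    rcases Nat.lt_or_ge i 70393 with h | h
    · exact allRange_spec vpChunk42 i (by omega) (by omega)
    rcases Nat.lt_or_ge i 72162 with h | h
    · exact allRange_spec vpChunk43 i (by omega) (by omega)
    rcases Nat.lt_or_ge i 73935 with h | h
    · exact allRange_spec vpChunk44 i (by omega) (by omega)
    rcases Nat.lt_or_ge i 75711 with h | h
    · exact allRange_spec vpChunk45 i (by omega) (by omega)
    rcases Nat.lt_or_ge i 77490 with h | h
    · exact allRange_spec vpChunk46 i (by omega) (by omega)
    rcases Nat.lt_or_ge i 79273 with h | h
    · exact allRange_spec vpChunk47 i (by omega) (by omega)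
    rcases Nat.lt_or_ge i 81058 with h | h
    · exact allRange_spec vpChunk48 i (by omega) (by omega)
    rcases Nat.lt_or_ge i 82846 with h | h
    · exact allRange_spec vpChunk49 i (by omega) (by omega)
    rcases Nat.lt_or_ge i 84637 with h | h
    · exact allRange_spec vpChunk50 i (by omega) (by omega)
    rcases Nat.lt_or_ge i 86430 with h | h
    · exact allRange_spec vpChunk51 i (by omega) (by omega)
    rcases Nat.lt_or_ge i 88227 with h | h
    · exact allRange_spec vpChunk52 i (by omega) (by omega)
    rcases Nat.lt_or_ge i 90026 with h | h
    · exact allRange_spec vpChunk53 i (by omega) (by omega)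
    rcases Nat.lt_or_ge i 91828 with h | h
    · exact allRange_spec vpChunk54 i (by omega) (by omega)
    rcases Nat.lt_or_ge i 93632 with h | h
    · exact allRange_spec vpChunk55 i (by omega) (by omega)
    rcases Nat.lt_or_ge i 95439 with h | h
    · exact allRange_spec vpChunk56 i (by omega) (by omega)
    rcases Nat.lt_or_ge i 97249 with h | h
    · exact allRange_spec vpChunk57 i (by omega) (by omega)
    rcases Nat.lt_or_ge i 99061 with h | h
    · exact allRange_spec vpChunk58 i (by omega) (by omega)
    rcases Nat.lt_or_ge i 100875 with h | h
    · exact allRange_spec vpChunk59 i (by omega) (by omega)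
    rcases Nat.lt_or_ge i 102692 with h | h
    · exact allRange_spec vpChunk60 i (by omega) (by omega)
    rcases Nat.lt_or_ge i 104512 with h | h
    · exact allRange_spec vpChunk61 i (by omega) (by omega)
    rcases Nat.lt_or_ge i 106333 with h | h
    · exact allRange_spec vpChunk62 i (by omega) (by omega)
    rcases Nat.lt_or_ge i 108157 with h | h
    · exact allRange_spec vpChunk63 i (by omega) (by omega)
    rcases Nat.lt_or_ge i 109984 with h | h
    · exact allRange_spec vpChunk64 i (by omega) (by omega)
    rcases Nat.lt_or_ge i 111812 with h | h
    · exact allRange_spec vpChunk65 i (by omega) (by omega)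
    rcases Nat.lt_or_ge i 113643 with h | h
    · exact allRange_spec vpChunk66 i (by omega) (by omega)
    rcases Nat.lt_or_ge i 115476 with h | h
    · exact allRange_spec vpChunk67 i (by omega) (by omega)
    rcases Nat.lt_or_ge i 117311 with h | h
    · exact allRange_spec vpChunk68 i (by omega) (by omega)
    rcases Nat.lt_or_ge i 119148 with h | h
    · exact allRange_spec vpChunk69 i (by omega) (by omega)
    rcases Nat.lt_or_ge i 120988 with h | h
    · exact allRange_spec vpChunk70 i (by omega) (by omega)
    rcases Nat.lt_or_ge i 122829 with h | h
    · exact allRange_spec vpChunk71 i (by omega) (by omega)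
    rcases Nat.lt_or_ge i 124673 with h | h
    · exact allRange_spec vpChunk72 i (by omega) (by omega)
    rcases Nat.lt_or_ge i 126518 with h | h
    · exact allRange_spec vpChunk73 i (by omega) (by omega)
    rcases Nat.lt_or_ge i 128366 with h | h
    · exact allRange_spec vpChunk74 i (by omega) (by omega)
    rcases Nat.lt_or_ge i 130215 with h | h
    · exact allRange_spec vpChunk75 i (by omega) (by omega)
    rcases Nat.lt_or_ge i 132066 with h | h
    · exact allRange_spec vpChunk76 i (by omega) (by omega)
    rcases Nat.lt_or_ge i 133920 with h | h
    · exact allRange_spec vpChunk77 i (by omega) (by omega)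
    rcases Nat.lt_or_ge i 135775 with h | h
    · exact allRange_spec vpChunk78 i (by omega) (by omega)
    exact allRange_spec vpChunk79 i (by omega) (by omega)
  eWord_ok := fun i hi => by
    rcases Nat.lt_or_ge i 6882 with h | h
    · exact allRange_spec veChunk0 i (by omega) (by omega)
    rcases Nat.lt_or_ge i 13763 with h | h
    · exact allRange_spec veChunk1 i (by omega) (by omega)
    rcases Nat.lt_or_ge i 20645 with h | h
    · exact allRange_spec veChunk2 i (by omega) (by omega)
    rcases Nat.lt_or_ge i 27526 with h | h
    · exact allRange_spec veChunk3 i (by omega) (by omega)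
    rcases Nat.lt_or_ge i 34408 with h | h
    · exact allRange_spec veChunk4 i (by omega) (by omega)
    rcases Nat.lt_or_ge i 41290 with h | h
    · exact allRange_spec veChunk5 i (by omega) (by omega)
    rcases Nat.lt_or_ge i 48171 with h | h
    · exact allRange_spec veChunk6 i (by omega) (by omega)
    rcases Nat.lt_or_ge i 55053 with h | h
    · exact allRange_spec veChunk7 i (by omega) (by omega)
    rcases Nat.lt_or_ge i 61934 with h | h
    · exact allRange_spec veChunk8 i (by omega) (by omega)
    rcases Nat.lt_or_ge i 68816 with h | h
    · exact allRange_spec veChunk9 i (by omega) (by omega)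
    rcases Nat.lt_or_ge i 75698 with h | h
    · exact allRange_spec veChunk10 i (by omega) (by omega)
    rcases Nat.lt_or_ge i 82579 with h | h
    · exact allRange_spec veChunk11 i (by omega) (by omega)
    rcases Nat.lt_or_ge i 89461 with h | h
    · exact allRange_spec veChunk12 i (by omega) (by omega)
    rcases Nat.lt_or_ge i 96342 with h | h
    · exact allRange_spec veChunk13 i (by omega) (by omega)
    rcases Nat.lt_or_ge i 103224 with h | h
    · exact allRange_spec veChunk14 i (by omega) (by omega)
    rcases Nat.lt_or_ge i 110106 with h | h
    · exact allRange_spec veChunk15 i (by omega) (by omega)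
    rcases Nat.lt_or_ge i 116987 with h | h
    · exact allRange_spec veChunk16 i (by omega) (by omega)
    rcases Nat.lt_or_ge i 123869 with h | h
    · exact allRange_spec veChunk17 i (by omega) (by omega)
    rcases Nat.lt_or_ge i 130750 with h | h
    · exact allRange_spec veChunk18 i (by omega) (by omega)
    exact allRange_spec veChunk19 i (by omega) (by omega)
  k_ok := fun i hi => by
    rcases Nat.lt_or_ge i 5703 with h | h
    · exact allRange_spec vkChunk0 i (by omega) (by omega)
    rcases Nat.lt_or_ge i 12656 with h | h
    · exact allRange_spec vkChunk1 i (by omega) (by omega)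
    rcases Nat.lt_or_ge i 20175 with h | h
    · exact allRange_spec vkChunk2 i (by omega) (by omega)
    rcases Nat.lt_or_ge i 28086 with h | h
    · exact allRange_spec vkChunk3 i (by omega) (by omega)
    rcases Nat.lt_or_ge i 36303 with h | h
    · exact allRange_spec vkChunk4 i (by omega) (by omega)
    rcases Nat.lt_or_ge i 44771 with h | h
    · exact allRange_spec vkChunk5 i (by omega) (by omega)
    rcases Nat.lt_or_ge i 53455 with h | h
    · exact allRange_spec vkChunk6 i (by omega) (by omega)
    rcases Nat.lt_or_ge i 62327 with h | h
    · exact allRange_spec vkChunk7 i (by omega) (by omega)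
    rcases Nat.lt_or_ge i 71368 with h | h
    · exact allRange_spec vkChunk8 i (by omega) (by omega)
    rcases Nat.lt_or_ge i 80561 with h | h
    · exact allRange_spec vkChunk9 i (by omega) (by omega)
    rcases Nat.lt_or_ge i 89893 with h | h
    · exact allRange_spec vkChunk10 i (by omega) (by omega)
    rcases Nat.lt_or_ge i 99354 with h | h
    · exact allRange_spec vkChunk11 i (by omega) (by omega)
    rcases Nat.lt_or_ge i 108933 with h | h
    · exact allRange_spec vkChunk12 i (by omega) (by omega)
    rcases Nat.lt_or_ge i 118624 with h | h
    · exact allRange_spec vkChunk13 i (by omega) (by omega)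
    rcases Nat.lt_or_ge i 128419 with h | h
    · exact allRange_spec vkChunk14 i (by omega) (by omega)
    rcases Nat.lt_or_ge i 138313 with h | h
    · exact allRange_spec vkChunk15 i (by omega) (by omega)
    rcases Nat.lt_or_ge i 148300 with h | h
    · exact allRange_spec vkChunk16 i (by omega) (by omega)
    rcases Nat.lt_or_ge i 158376 with h | h
    · exact allRange_spec vkChunk17 i (by omega) (by omega)
    rcases Nat.lt_or_ge i 168536 with h | h
    · exact allRange_spec vkChunk18 i (by omega) (by omega)
    rcases Nat.lt_or_ge i 178776 with h | h
    · exact allRange_spec vkChunk19 i (by omega) (by omega)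
    rcases Nat.lt_or_ge i 189094 with h | h
    · exact allRange_spec vkChunk20 i (by omega) (by omega)
    rcases Nat.lt_or_ge i 199486 with h | h
    · exact allRange_spec vkChunk21 i (by omega) (by omega)
    rcases Nat.lt_or_ge i 209948 with h | h
    · exact allRange_spec vkChunk22 i (by omega) (by omega)
    rcases Nat.lt_or_ge i 220480 with h | h
    · exact allRange_spec vkChunk23 i (by omega) (by omega)
    rcases Nat.lt_or_ge i 231077 with h | h
    · exact allRange_spec vkChunk24 i (by omega) (by omega)
    rcases Nat.lt_or_ge i 241738 with h | h
    · exact allRange_spec vkChunk25 i (by omega) (by omega)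
    rcases Nat.lt_or_ge i 252461 with h | h
    · exact allRange_spec vkChunk26 i (by omega) (by omega)
    rcases Nat.lt_or_ge i 263243 with h | h
    · exact allRange_spec vkChunk27 i (by omega) (by omega)
    rcases Nat.lt_or_ge i 274084 with h | h
    · exact allRange_spec vkChunk28 i (by omega) (by omega)
    rcases Nat.lt_or_ge i 284980 with h | h
    · exact allRange_spec vkChunk29 i (by omega) (by omega)
    rcases Nat.lt_or_ge i 295932 with h | h
    · exact allRange_spec vkChunk30 i (by omega) (by omega)
    exact allRange_spec vkChunk31 i (by omega) (by omega)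
  w_ok := fun i hi => by
    rcases Nat.lt_or_ge i 3441 with h | h
    · exact allRange_spec vwChunk0 i (by omega) (by omega)
    rcases Nat.lt_or_ge i 6882 with h | h
    · exact allRange_spec vwChunk1 i (by omega) (by omega)
    rcases Nat.lt_or_ge i 10322 with h | h
    · exact allRange_spec vwChunk2 i (by omega) (by omega)
    rcases Nat.lt_or_ge i 13763 with h | h
    · exact allRange_spec vwChunk3 i (by omega) (by omega)
    rcases Nat.lt_or_ge i 17204 with h | h
    · exact allRange_spec vwChunk4 i (by omega) (by omega)
    rcases Nat.lt_or_ge i 20645 with h | h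
    · exact allRange_spec vwChunk5 i (by omega) (by omega)
    rcases Nat.lt_or_ge i 24086 with h | h
    · exact allRange_spec vwChunk6 i (by omega) (by omega)
    rcases Nat.lt_or_ge i 27526 with h | h
    · exact allRange_spec vwChunk7 i (by omega) (by omega)
    rcases Nat.lt_or_ge i 30967 with h | h
    · exact allRange_spec vwChunk8 i (by omega) (by omega)
    rcases Nat.lt_or_ge i 34408 with h | h
    · exact allRange_spec vwChunk9 i (by omega) (by omega)
    rcases Nat.lt_or_ge i 37849 with h | h
    · exact allRange_spec vwChunk10 i (by omega) (by omega)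
    rcases Nat.lt_or_ge i 41290 with h | h
    · exact allRange_spec vwChunk11 i (by omega) (by omega)
    rcases Nat.lt_or_ge i 44730 with h | h
    · exact allRange_spec vwChunk12 i (by omega) (by omega)
    rcases Nat.lt_or_ge i 48171 with h | h
    · exact allRange_spec vwChunk13 i (by omega) (by omega)
    rcases Nat.lt_or_ge i 51612 with h | h
    · exact allRange_spec vwChunk14 i (by omega) (by omega)
    rcases Nat.lt_or_ge i 55053 with h | h
    · exact allRange_spec vwChunk15 i (by omega) (by omega)
    rcases Nat.lt_or_ge i 58494 with h | h
    · exact allRange_spec vwChunk16 i (by omega) (by omega)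
    rcases Nat.lt_or_ge i 61934 with h | h
    · exact allRange_spec vwChunk17 i (by omega) (by omega)
    rcases Nat.lt_or_ge i 65375 with h | h
    · exact allRange_spec vwChunk18 i (by omega) (by omega)
    rcases Nat.lt_or_ge i 68816 with h | h
    · exact allRange_spec vwChunk19 i (by omega) (by omega)
    rcases Nat.lt_or_ge i 72257 with h | h
    · exact allRange_spec vwChunk20 i (by omega) (by omega)
    rcases Nat.lt_or_ge i 75698 with h | h
    · exact allRange_spec vwChunk21 i (by omega) (by omega)
    rcases Nat.lt_or_ge i 79138 with h | h
    · exact allRange_spec vwChunk22 i (by omega) (by omega)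
    rcases Nat.lt_or_ge i 82579 with h | h
    · exact allRange_spec vwChunk23 i (by omega) (by omega)
    rcases Nat.lt_or_ge i 86020 with h | h
    · exact allRange_spec vwChunk24 i (by omega) (by omega)
    rcases Nat.lt_or_ge i 89461 with h | h
    · exact allRange_spec vwChunk25 i (by omega) (by omega)
    rcases Nat.lt_or_ge i 92902 with h | h
    · exact allRange_spec vwChunk26 i (by omega) (by omega)
    rcases Nat.lt_or_ge i 96342 with h | h
    · exact allRange_spec vwChunk27 i (by omega) (by omega)
    rcases Nat.lt_or_ge i 99783 with h | h
    · exact allRange_spec vwChunk28 i (by omega) (by omega)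
    rcases Nat.lt_or_ge i 103224 with h | h
    · exact allRange_spec vwChunk29 i (by omega) (by omega)
    rcases Nat.lt_or_ge i 106665 with h | h
    · exact allRange_spec vwChunk30 i (by omega) (by omega)
    rcases Nat.lt_or_ge i 110106 with h | h
    · exact allRange_spec vwChunk31 i (by omega) (by omega)
    rcases Nat.lt_or_ge i 113546 with h | h
    · exact allRange_spec vwChunk32 i (by omega) (by omega)
    rcases Nat.lt_or_ge i 116987 with h | h
    · exact allRange_spec vwChunk33 i (by omega) (by omega)
    rcases Nat.lt_or_ge i 120428 with h | h
    · exact allRange_spec vwChunk34 i (by omega) (by omega)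
    rcases Nat.lt_or_ge i 123869 with h | h
    · exact allRange_spec vwChunk35 i (by omega) (by omega)
    rcases Nat.lt_or_ge i 127310 with h | h
    · exact allRange_spec vwChunk36 i (by omega) (by omega)
    rcases Nat.lt_or_ge i 130750 with h | h
    · exact allRange_spec vwChunk37 i (by omega) (by omega)
    rcases Nat.lt_or_ge i 134191 with h | h
    · exact allRange_spec vwChunk38 i (by omega) (by omega)
    exact allRange_spec vwChunk39 i (by omega) (by omega)
  small_ok := fun i hi => by
    rcases Nat.lt_or_ge i 6334 with h | h
    · exact allRange_spec vsChunk0 i (by omega) (by omega)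
    rcases Nat.lt_or_ge i 12669 with h | h
    · exact allRange_spec vsChunk1 i (by omega) (by omega)
    rcases Nat.lt_or_ge i 19003 with h | h
    · exact allRange_spec vsChunk2 i (by omega) (by omega)
    rcases Nat.lt_or_ge i 25338 with h | h
    · exact allRange_spec vsChunk3 i (by omega) (by omega)
    exact allRange_spec vsChunk4 i (by omega) (by omega)

end Cfsg.Agent.Fi24Mult44
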