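import Cfsg.Agent.Fi24Mult44.Perm
import Cfsg.Agent.Fi24Mult44.Checked

/-!
The triple cover of `Fi24'`.
-/

set_option autoImplicit false

namespace Cfsg.Agent.Fi24Mult44

/-- `Fi24'` has a stem extension with kernel of order three. -/
theorem cover : ∃ (Γ : Type) (_ : Group Γ) (_ : Finite Γ) (σ : Γ →* Cfsg.Spor.Fi24'),
    Cfsg.IsStemExtension σ ∧ Nat.card σ.ker = 3 :=
  cover_of_lifted (lifted Exist24.checked vchecked)

end Cfsg.Agent.Fi24Mult44
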