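import Cfsg.Agent.Exist24.Defs
import Cfsg.Agent.Fi24Mult44.Data.VbT
import Cfsg.Agent.Fi24Mult44.Data.VkT
import Cfsg.Agent.Fi24Mult44.Data.EtT
import Cfsg.Agent.Fi24Mult44.Data.PotT

/-!
Checks for the voltages of the triple cover. A state `4 * i + t` is the code `i` with the digit `t < 3`.
-/

set_option autoImplicit false
set_option maxRecDepth 100000

namespace Cfsg.Agent.Fi24Mult44
open Cfsg.Agent.CosetEnum
open Cfsg.Agent.Exist24 (eWord lC kC)

/-- The voltage of a letter at a signed pair. -/
noncomputable def volB (l c : ℕ) : ℕ :=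
  forceNat c fun c => forceNat (vbT.get 2 (Nat.add (Nat.mul (Nat.shiftRight c 1) 10) l)) fun t =>
    bif Nat.beq (Nat.land c 1) 1 then Nat.mod (Nat.mul 2 t) 3 else t

/-- The voltage of a letter at a code. -/
noncomputable def volC (l i : ℕ) : ℕ :=
  forceNat i fun i =>
    bif Nat.blt l 10 then (bif Nat.blt i 31672 then 0 else volB l (Nat.sub i 31672))
    else bif Nat.beq l 11 then vkT.get 2 i else 0

/-- A letter on the codes. -/
noncomputable def posC (i l : ℕ) : ℕ :=
  forceNat i fun i => bif Nat.blt l 10 then Exist24.gC l i else bif Nat.beq l 10 then lC i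
    else bif Nat.beq l 11 then kC i else i

/-- A letter on the states. -/
noncomputable def stepY (l s : ℕ) : ℕ :=
  forceNat s fun s => forceNat (Nat.shiftRight s 2) fun i =>
    Nat.add (Nat.mul 4 (posC i l)) (Nat.mod (Nat.add (Nat.sub 3 (Nat.land s 3)) (volC l i)) 3)

/-- A word on the states, the last letter first. -/
noncomputable def runY (W : List ℕ) (s : ℕ) : ℕ :=
  List.rec (motive := fun _ => ℕ) s (fun l _ ih => stepY l ih) W

/-- The digit of a letter at a state. -/
noncomputable def stepT (l s : ℕ) : ℕ :=
  forceNat s fun s =>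
    Nat.mod (Nat.add (Nat.sub 3 (Nat.land s 3)) (volC l (Nat.shiftRight s 2))) 3

/-- The word of the relator of `E7`. -/
def e7 : List ℕ := eWord

/-- The potential of the relator of `E7`. -/
noncomputable def potE (i : ℕ) : ℕ :=
  forceNat i fun i => bif Nat.blt i 31672 then 0 else
    forceNat (Nat.sub i 31672) fun c => forceNat (etT.get 2 (Nat.shiftRight c 1)) fun t =>
      bif Nat.beq (Nat.land c 1) 1 then Nat.mod (Nat.mul 2 t) 3 else t

/-- The part of the rotated Coxeter word in the letters of `Fi23`. -/
def mW : List ℕ := [3, 4, 5, 6, 7, 3, 8, 9, 3, 2, 1, 0]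

/-- The potential of the rotated Coxeter word. -/
noncomputable def potC (i : ℕ) : ℕ := potT.get 2 i

/-- The braiding letters. -/
def adj (a b : ℕ) : Bool :=
  [(0, 1), (1, 2), (2, 3), (3, 4), (4, 5), (5, 6), (6, 7), (3, 8), (8, 9)].any
    (fun p => Nat.beq p.1 a && Nat.beq p.2 b)

/-- Check of two letters from the states of the two neighbours. -/
noncomputable def eqPair (a b u w : ℕ) : Bool :=
  bif adj a b then Nat.beq (stepT a (stepY b u)) (stepT b (stepY a w))
  else Nat.beq (stepT b u) (stepT a w)

/-- Check of the letters of `Fi23` at the pair `x`. -/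
noncomputable def vpStep (x : ℕ) : Bool :=
  forceNat (Nat.add 31672 (Nat.mul 2 x)) fun i => forceNat (Nat.mul 4 i) fun s =>
    allRange (fun a => forceNat (stepY a s) fun u =>
      bif Nat.blt (Nat.shiftRight u 2) i then true else
        Nat.beq (stepT a u) 0 &&
          allRange (fun b => forceNat (stepY b s) fun w =>
            bif Nat.blt (Nat.shiftRight w 2) i then true else eqPair a b u w) (a + 1) (9 - a)) 0 10

/-- Check of the relator of `E7` at the pair `x`. -/
noncomputable def veStep (x : ℕ) : Bool :=
  forceNat (Nat.add 31672 (Nat.mul 2 x)) fun i => forceNat (runY e7 (Nat.mul 4 i)) fun u =>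
    bif Nat.beq (Nat.land u 3) (Nat.mod (Nat.add (potE i) (potE (Nat.shiftRight u 2))) 3) then true
    else Nat.beq (Nat.shiftRight (runY e7 (runY e7 u)) 2) (lC i)

/-- Check of the voltage of `k` at the code `i`. -/
noncomputable def vkStep (i : ℕ) : Bool :=
  forceNat i fun i => forceNat (Nat.mul 4 i) fun s => forceNat (stepY 11 s) fun u =>
    bif Nat.blt (Nat.shiftRight u 2) i then true else
      Nat.beq (stepT 11 u) 0 &&
        allRange (fun m => forceNat (stepY m s) fun w =>
          bif Nat.blt (Nat.shiftRight w 2) i then true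
          else Nat.beq (stepT 11 w) (stepT m u)) 1 9

/-- Check of the rotated Coxeter word at the code `i`, given the state after the letters of `Fi23`. -/
noncomputable def wOK (i g : ℕ) : Bool :=
  forceNat g fun g => forceNat (runY [11, 10] g) fun u =>
    Nat.beq (Nat.land u 3)
      (Nat.mod (Nat.add (potC (Nat.shiftRight u 2)) (Nat.add (Nat.mul 2 (potC i)) 2)) 3)

/-- Check of the rotated Coxeter word at the pair `x`. -/
noncomputable def vwStep (x : ℕ) : Bool :=
  forceNat (Nat.add 31672 (Nat.mul 2 x)) fun i => forceNat (runY mW (Nat.mul 4 i)) fun g =>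
    wOK i g && wOK (Nat.add i 1)
      (Nat.add (Nat.mul 4 (lC (Nat.shiftRight g 2))) (Nat.mod (Nat.mul 2 (Nat.land g 3)) 3))

/-- Check of the rotated Coxeter word at a fixed code of the central involution. -/
noncomputable def vsStep (i : ℕ) : Bool :=
  forceNat i fun i => wOK i (runY mW (Nat.mul 4 i))

/-- The facts established point by point. -/
structure VChecked : Prop where
  pair : ∀ x < 137632, vpStep x = true
  eWord_ok : ∀ x < 137632, veStep x = true
  k_ok : ∀ i < 306936, vkStep i = true
  w_ok : ∀ x < 137632, vwStep x = true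
  small_ok : ∀ i < 31672, vsStep i = true

end Cfsg.Agent.Fi24Mult44
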