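import Cfsg.Agent.SporB.Fi24.Main
import Cfsg.Prelude.Def_KGroupFacts

/-!
What the voltages have to give: twelve permutations of `X × ZMod 3` over the letters of the model.
-/

set_option autoImplicit false

namespace Cfsg.Agent.Fi24Mult44
open Cfsg.Agent.CosetEnum
open Cfsg.Agent.Exist24 (X Checked)

/-- The points of the triple cover. -/
abbrev Y : Type := X × ZMod 3

/-- A constant translation of the fibres. -/
def tr (c : ZMod 3) : Equiv.Perm Y := Equiv.prodCongr (Equiv.refl X) (Equiv.addRight c)

/-- The word of the last relator. -/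
def zWord : List ℕ := repWord [3, 2, 1, 0, 11, 10, 3, 4, 5, 6, 7, 3, 8, 9] 17

/-- Twelve permutations over the letters, satisfying every relator but the last. -/
structure Lifted (H : Checked) where
  /-- The permutations. -/
  y : ℕ → Equiv.Perm Y
  fst : ∀ l < 12, ∀ p : Y, (y l p).1 = Fi24.mv H l p.1
  sq : ∀ l, y l * y l = 1
  inverts : ∀ l < 12, ∀ c : ZMod 3, y l * tr c * y l = tr (-c)
  rel : ∀ W ∈ Fi24.pres.relWords, W ≠ zWord → evalWord y W = 1
  /-- The translation of the last word. -/
  c : ZMod 3
  c_ne : c ≠ 0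
  z : evalWord y zWord = tr c

end Cfsg.Agent.Fi24Mult44
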