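import Cfsg.Agent.Fi24Mult44.Assembly
import Cfsg.Agent.Fi24Mult44.Defs

/-!
The voltages as lifted letters: symmetry, the relators and the translation of the last word.
-/

set_option autoImplicit false
set_option maxRecDepth 100000
set_option linter.unusedSectionVars false

namespace Cfsg.Agent.Fi24Mult44

open Cfsg.Agent.CosetEnum
open Cfsg.Agent.Exist24 (X Checked cd dc cd_inj cd_lt gen el kP gC lC kC cd_gen cd_el cd_k)
open Cfsg.Agent.CosetEnum.Fi24 (mv pres mC)

theorem sR2 (n : ℕ) : Nat.shiftRight n 2 = n / 4 := by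
  show n >>> 2 = n / 4
  rw [Nat.shiftRight_eq_div_pow]

theorem and3 (n : ℕ) : Nat.land n 3 = n % 4 := by
  show n &&& 3 = n % 4
  rw [show (3 : ℕ) = 2 ^ 2 - 1 by norm_num, Nat.and_two_pow_sub_one_eq_mod]

theorem cast_mod3 (n : ℕ) : ((Nat.mod n 3 : ℕ) : ZMod 3) = n := ZMod.natCast_mod n 3

theorem val3 (n : ℕ) : ((n : ZMod 3)).val = n % 3 := ZMod.val_natCast 3 n

theorem two_neg (a : ZMod 3) : 2 * a = -a := by revert a; decide

theorem cast_two (t : ℕ) : ((Nat.mod (Nat.mul 2 t) 3 : ℕ) : ZMod 3) = -(t : ZMod 3) := by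
  rw [cast_mod3, ← two_neg]; exact Nat.cast_mul 2 t

theorem posC_eq (i l : ℕ) : posC i l = mC i l := rfl

theorem volC_pair {l c : ℕ} (hl : l < 10) :
    ((volC l (31672 + c) : ℕ) : ZMod 3) =
      if c % 2 = 1 then -((vbT.get 2 (c / 2 * 10 + l) : ℕ) : ZMod 3)
      else ((vbT.get 2 (c / 2 * 10 + l) : ℕ) : ZMod 3) := by
  rw [volC, forceNat_eq, show Nat.blt l 10 = true from Nat.ble_eq.mpr hl, cond_true,
    show Nat.blt (31672 + c) 31672 = false from Bool.eq_false_iff.mpr fun h =>
      absurd (Nat.le_of_ble_eq_true h) (by omega), cond_false,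
    show Nat.sub (31672 + c) 31672 = c from Nat.add_sub_cancel_left _ _, volB, forceNat_eq, forceNat_eq,
    Exist24.sR]
  change ((cond (Nat.beq (Nat.land c 1) 1) _ _ : ℕ) : ZMod 3) = _
  rw [show Nat.land c 1 = c % 2 from Nat.and_one_is_mod c]
  rcases Nat.mod_two_eq_zero_or_one c with h | h <;> rw [h]
  · rfl
  · exact cast_two _

theorem potE_pair (c : ℕ) : ((potE (31672 + c) : ℕ) : ZMod 3) =
    if c % 2 = 1 then -((etT.get 2 (c / 2) : ℕ) : ZMod 3) else ((etT.get 2 (c / 2) : ℕ) : ZMod 3) := by
  rw [potE, forceNat_eq, show Nat.blt (31672 + c) 31672 = false from Bool.eq_false_iff.mpr fun h =>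
      absurd (Nat.le_of_ble_eq_true h) (by omega), cond_false, forceNat_eq, forceNat_eq,
    show Nat.sub (31672 + c) 31672 = c from Nat.add_sub_cancel_left _ _, Exist24.sR]
  change ((cond (Nat.beq (Nat.land c 1) 1) _ _ : ℕ) : ZMod 3) = _
  rw [show Nat.land c 1 = c % 2 from Nat.and_one_is_mod c]
  rcases Nat.mod_two_eq_zero_or_one c with h | h <;> rw [h]
  · rfl
  · exact cast_two _

/-- The voltages on the points. -/
noncomputable def vz (l : ℕ) (x : X) : ZMod 3 := (volC l (cd x) : ℕ)

/-- The potential of the relator of `E7` on the points. -/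
noncomputable def pz (x : X) : ZMod 3 := (potE (cd x) : ℕ)

/-- The potential of the rotated Coxeter word on the points. -/
noncomputable def cz (x : X) : ZMod 3 := (potC (cd x) : ℕ)

/-- The state of a point of the cover. -/
def code (y : Y) : ℕ := 4 * cd y.1 + y.2.val

theorem code_div (y : Y) : Nat.shiftRight (code y) 2 = cd y.1 := by
  have := ZMod.val_lt y.2
  rw [sR2, code]; omega

theorem code_dig (y : Y) : Nat.land (code y) 3 = y.2.val := by
  have := ZMod.val_lt y.2
  rw [and3, code]; omega

theorem code_zero (x : X) : code (x, 0) = Nat.mul 4 (cd x) := rfl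

theorem code_inj {y y' : Y} (h : code y = code y') : y = y' := by
  have h1 := code_div y
  have h2 := code_dig y
  rw [h, code_div] at h1
  rw [h, code_dig] at h2
  exact Prod.ext (cd_inj h1.symm) (ZMod.val_injective 3 h2.symm)

/-- A fixed point of the central involution. -/
def Small (x : X) : Prop := cd x < 31672

variable (H : Checked)

theorem small_mv {l : ℕ} (hl : l < 11) {x : X} (hx : Small x) : Small (mv H l x) := by
  have hn := Exist24.tbl_n
  unfold Small at *
  rw [mv]
  rcases x with u | p | c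
  · split_ifs <;> first | omega | exact Nat.zero_lt_succ _
  · rcases Nat.lt_or_ge l 10 with h1 | h1
    · rw [if_pos h1]
      show 1 + ((Fi23.Tri.act (Fi23.pres.val l) p : Fi23.Tri.Pt) : ℕ) < _
      have := (Fi23.Tri.act (Fi23.pres.val l) p).2
      omega
    · rw [if_neg (by omega), if_pos (by omega)]
      show 1 + ((Fi23.Tri.act (1 : Fi23.pres.Gp) p : Fi23.Tri.Pt) : ℕ) < _
      have := (Fi23.Tri.act (1 : Fi23.pres.Gp) p).2
      omega
  · exact absurd hx (by show ¬ 31672 + _ < _; omega)

theorem cd_el' (x : X) : cd (mv H 10 x) = lC (cd x) := cd_el H x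

theorem lC_small {i : ℕ} (h : i < 31672) : lC i = i := by
  rw [lC, forceNat_eq, show Nat.blt i 31672 = true from Nat.ble_eq.mpr h, cond_true]

theorem lC_pair (c : ℕ) : lC (31672 + c) = 31672 + (c ^^^ 1) := by
  rw [lC, forceNat_eq, show Nat.blt (31672 + c) 31672 = false from Bool.eq_false_iff.mpr fun h =>
      absurd (Nat.le_of_ble_eq_true h) (by omega), cond_false, Nat.add_sub_cancel_left]
  rfl

theorem el_el (x : X) : mv H 10 (mv H 10 x) = x := by
  rw [← Equiv.Perm.mul_apply, Fi24.mv_sq]; rfl

theorem vz_small {l : ℕ} (hl : l < 11) {x : X} (hx : Small x) : vz l x = 0 := by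
  rw [vz, volC, forceNat_eq]
  rcases Nat.lt_or_ge l 10 with h | h
  · rw [show Nat.blt l 10 = true from Nat.ble_eq.mpr h, cond_true,
      show Nat.blt (cd x) 31672 = true from Nat.ble_eq.mpr hx, cond_true, Nat.cast_zero]
  · obtain rfl : l = 10 := by omega
    exact Nat.cast_zero

theorem vz_el (x : X) : vz 10 x = 0 := by
  rw [vz, volC, forceNat_eq]; exact Nat.cast_zero

theorem vz_high {l : ℕ} (hl : 12 ≤ l) (x : X) : vz l x = 0 := by
  rw [vz, volC, forceNat_eq, show Nat.blt l 10 = false from Bool.eq_false_iff.mpr fun h =>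
      absurd (Nat.le_of_ble_eq_true h) (by omega), cond_false,
    show Nat.beq l 11 = false from Bool.eq_false_iff.mpr fun h =>
      absurd (Nat.eq_of_beq_eq_true h) (by omega)]
  exact Nat.cast_zero

theorem vz_flip {l : ℕ} (hl : l < 11) (x : X) : vz l (mv H 10 x) = -vz l x := by
  rcases Nat.lt_or_ge (cd x) 31672 with hs | hs
  · rw [vz_small hl hs, vz_small hl (small_mv H (by omega) hs), neg_zero]
  rcases Nat.lt_or_ge l 10 with h | h
  · obtain ⟨c, hc⟩ : ∃ c, cd x = 31672 + c := ⟨cd x - 31672, by omega⟩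
    rw [vz, vz, cd_el', hc, lC_pair, volC_pair h, volC_pair h, Exist24.half_flip]
    have hf : (c ^^^ 1) % 2 = 1 - c % 2 := by
      have h1 : ((c ^^^ 1) % 2 = 1) ↔ ¬ (c % 2 = 1 ↔ 1 % 2 = 1) := Nat.xor_mod_two_eq_one
      rcases Nat.mod_two_eq_zero_or_one c with e | e <;> rw [e] at h1 ⊢ <;> omega
    rcases Nat.mod_two_eq_zero_or_one c with e | e <;> simp [hf, e]
  · obtain rfl : l = 10 := by omega
    rw [vz_el, vz_el, neg_zero]

theorem pz_flip (x : X) : pz (mv H 10 x) = -pz x := by
  rcases Nat.lt_or_ge (cd x) 31672 with hs | hs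
  · have e : ∀ z : X, Small z → pz z = 0 := fun z hz => by
      rw [pz, potE, forceNat_eq, show Nat.blt (cd z) 31672 = true from Nat.ble_eq.mpr hz, cond_true,
        Nat.cast_zero]
    rw [e x hs, e _ (small_mv H (by omega) hs), neg_zero]
  · obtain ⟨c, hc⟩ : ∃ c, cd x = 31672 + c := ⟨cd x - 31672, by omega⟩
    rw [pz, pz, cd_el', hc, lC_pair, potE_pair, potE_pair, Exist24.half_flip]
    have hf : (c ^^^ 1) % 2 = 1 - c % 2 := by
      have h1 : ((c ^^^ 1) % 2 = 1) ↔ ¬ (c % 2 = 1 ↔ 1 % 2 = 1) := Nat.xor_mod_two_eq_one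
      rcases Nat.mod_two_eq_zero_or_one c with e | e <;> rw [e] at h1 ⊢ <;> omega
    rcases Nat.mod_two_eq_zero_or_one c with e | e <;> simp [hf, e]

theorem code_step (l : ℕ) (y : Y) : stepY l (code y) = code (step H vz l y) := by
  rw [stepY, forceNat_eq, forceNat_eq, code_div, code_dig, posC_eq, ← Fi24.cd_mv H]
  show 4 * cd (mv H l y.1) + _ = 4 * cd (mv H l y.1) + (-y.2 + vz l y.1).val
  congr 1
  rw [vz, show (-y.2 + ((volC l (cd y.1) : ℕ) : ZMod 3)) = ((3 - y.2.val + volC l (cd y.1) : ℕ) : ZMod 3) by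
    rw [Nat.cast_add, Nat.cast_sub (ZMod.val_lt y.2).le, ZMod.natCast_zmod_val,
      show ((3 : ℕ) : ZMod 3) = 0 from ZMod.natCast_self 3, zero_sub], val3]
  rfl

theorem code_stepT (l : ℕ) (y : Y) : stepT l (code y) = (step H vz l y).2.val := by
  have h1 := code_dig (step H vz l y)
  rw [← code_step, stepY, forceNat_eq, forceNat_eq, and3] at h1
  rw [stepT, forceNat_eq, ← h1]
  generalize posC (Nat.shiftRight (code y) 2) l = p
  generalize Nat.add (Nat.sub 3 (Nat.land (code y) 3)) (volC l (Nat.shiftRight (code y) 2)) = q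
  show q % 3 = (4 * p + q % 3) % 4
  omega

variable (V : VChecked)

/-- The first code of the signed pair of a code. -/
theorem split_code (x : X) (hs : ¬ Small x) :
    ∃ q < 137632, cd x = 31672 + 2 * q ∨ cd x = 31672 + 2 * q + 1 ∧ cd (mv H 10 x) = 31672 + 2 * q := by
  unfold Small at hs
  have hlt := cd_lt x
  refine ⟨(cd x - 31672) / 2, by omega, ?_⟩
  rcases Nat.mod_two_eq_zero_or_one (cd x - 31672) with h | h
  · left; omega
  · right
    refine ⟨by omega, ?_⟩
    obtain ⟨c, hc⟩ : ∃ c, cd x = 31672 + c := ⟨cd x - 31672, by omega⟩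
    rw [cd_el', hc, lC_pair, Nat.add_sub_cancel_left]
    have h1 := Exist24.half_flip c
    have h2 : ((c ^^^ 1) % 2 = 1) ↔ ¬ (c % 2 = 1 ↔ 1 % 2 = 1) := Nat.xor_mod_two_eq_one
    omega

theorem mv_el_comm {l : ℕ} (hl : l < 11) (x : X) : mv H l (mv H 10 x) = mv H 10 (mv H l x) := by
  rcases Nat.lt_or_ge l 10 with h | h
  · rw [show mv H l = gen H l from if_pos h, show mv H 10 = el H from rfl, ← Equiv.Perm.mul_apply,
      gen, (Exist24.el_comm H _).eq.symm]
    rfl
  · obtain rfl : l = 10 := by omega
    rfl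

include V in
theorem sym (l : ℕ) (x : X) : vz l (mv H l x) = vz l x := by
  rcases Nat.lt_or_ge l 12 with hl | hl
  swap
  · rw [vz_high hl, vz_high hl]
  suffices ∀ i, ∀ x : X, cd x = i → vz l (mv H l x) = vz l x from this _ x rfl
  intro i
  induction i using Nat.strong_induction_on with
  | _ i ih =>
    intro x hx
    have back : cd (mv H l x) < i → vz l (mv H l x) = vz l x := by
      intro h
      have h2 := ih _ h (mv H l x) rfl
      rw [← Equiv.Perm.mul_apply, Fi24.mv_sq] at h2
      exact h2.symm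
    have fromCheck : ∀ u : ℕ, u = stepY l (code (x, 0)) → stepT l u = 0 → vz l (mv H l x) = vz l x := by
      intro u hu h
      rw [hu, code_step H, code_stepT H] at h
      have h2 : (step H vz l (step H vz l (x, 0))).2 = 0 := (ZMod.val_eq_zero _).mp h
      simp only [step] at h2
      rw [neg_zero, zero_add, neg_add_eq_zero] at h2
      exact h2.symm
    rcases Nat.lt_or_ge l 10 with h10 | h10
    · rcases Nat.lt_or_ge (cd x) 31672 with hs | hs
      · rw [vz_small (by omega) hs, vz_small (by omega) (small_mv H (by omega) hs)]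
      obtain ⟨q, hq, he | ⟨ho, he⟩⟩ := split_code H x (not_lt.mpr hs)
      · have h := V.pair q hq
        rw [vpStep, forceNat_eq, forceNat_eq] at h
        have h2 := allRange_spec h l (Nat.zero_le _) (by omega)
        rw [forceNat_eq, show Nat.add 31672 (Nat.mul 2 q) = cd x from he.symm, ← code_zero] at h2
        cases hb : Nat.blt (Nat.shiftRight (stepY l (code (x, 0))) 2) (cd x) with
        | true =>
          rw [code_step H, code_div] at hb
          exact back (hx ▸ Nat.le_of_ble_eq_true hb)
        | false =>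
          rw [hb, cond_false, Bool.and_eq_true] at h2
          exact fromCheck _ rfl (Nat.eq_of_beq_eq_true h2.1)
      · have h := ih _ (by omega) (mv H 10 x) rfl
        rw [mv_el_comm H (by omega), vz_flip H (by omega), vz_flip H (by omega), neg_inj] at h
        exact h
    rcases Nat.lt_or_ge l 11 with h11 | h11
    · obtain rfl : l = 10 := by omega
      rw [vz_el, vz_el]
    obtain rfl : l = 11 := by omega
    have h := V.k_ok (cd x) (cd_lt x)
    rw [vkStep, forceNat_eq, forceNat_eq, forceNat_eq, ← code_zero] at h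
    cases hb : Nat.blt (Nat.shiftRight (stepY 11 (code (x, 0))) 2) (cd x) with
    | true =>
      rw [code_step H, code_div] at hb
      exact back (hx ▸ Nat.le_of_ble_eq_true hb)
    | false =>
      rw [hb, cond_false, Bool.and_eq_true] at h
      exact fromCheck _ rfl (Nat.eq_of_beq_eq_true h.1)

/-- The lifted letters. -/
noncomputable def yP : ℕ → Equiv.Perm Y := mkP vz (sym H V)

theorem yP_apply (l : ℕ) (y : Y) : yP H V l y = step H vz l y := rfl

theorem yP_sq (l : ℕ) : yP H V l * yP H V l = 1 :=
  Equiv.ext fun y => (yP H V l).symm_apply_apply y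

theorem yP_yP (l : ℕ) (y : Y) : yP H V l (yP H V l y) = y := by
  rw [← Equiv.Perm.mul_apply, yP_sq]; rfl

theorem code_word : ∀ (W : List ℕ) (y : Y), runY W (code y) = code (evalWord (yP H V) W y)
  | [], _ => rfl
  | l :: W, y => by
    show stepY l (runY W (code y)) = _
    rw [code_word W y, code_step H]
    rfl

theorem word_fst : ∀ (W : List ℕ) (y : Y), (evalWord (yP H V) W y).1 = evalWord (mv H) W y.1
  | [], _ => rfl
  | l :: W, y => by
    show mv H l (evalWord (yP H V) W y).1 = mv H l (evalWord (mv H) W y.1)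
    rw [word_fst W y]

theorem yP_tr (l : ℕ) (a : ZMod 3) : yP H V l * tr a = tr (-a) * yP H V l := by
  have h : yP H V l * tr a * yP H V l = tr (-a) := step_inverts vz (sym H V) l a
  calc yP H V l * tr a = yP H V l * tr a * (yP H V l * yP H V l) := by rw [yP_sq, mul_one]
    _ = tr (-a) * yP H V l := by rw [← mul_assoc, h]

theorem word_tr : ∀ (W : List ℕ) (a : ZMod 3),
    evalWord (yP H V) W * tr a = tr ((-1) ^ W.length * a) * evalWord (yP H V) W
  | [], a => by simp [evalWord]
  | l :: W, a => by
    rw [evalWord, mul_assoc, word_tr W a, ← mul_assoc, yP_tr, mul_assoc, List.length_cons,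
      show ((-1 : ZMod 3)) ^ (W.length + 1) * a = -((-1) ^ W.length * a) by ring]

theorem word_apply (W : List ℕ) (x : X) (a : ZMod 3) : evalWord (yP H V) W (x, a) =
    ((evalWord (yP H V) W (x, 0)).1, (evalWord (yP H V) W (x, 0)).2 + (-1) ^ W.length * a) := by
  have h := congrArg (fun f : Equiv.Perm Y => f (x, 0)) (word_tr H V W a)
  simp only [Equiv.Perm.mul_apply, tr_apply, zero_add] at h
  exact h

/-- Two words of the same parity agree over a point when they agree at its first lift. -/
theorem agree (U W : List ℕ) (x : X) (hp : (-1 : ZMod 3) ^ U.length = (-1) ^ W.length)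
    (h : evalWord (yP H V) U (x, 0) = evalWord (yP H V) W (x, 0)) (a : ZMod 3) :
    evalWord (yP H V) U (x, a) = evalWord (yP H V) W (x, a) := by
  rw [word_apply H V U, word_apply H V W, h, hp]

theorem el_small {x : X} (hx : Small x) : mv H 10 x = x :=
  cd_inj (by rw [cd_el', lC_small hx])

theorem el_comm {l : ℕ} (hl : l < 11) : Commute (yP H V 10) (yP H V l) := by
  refine Equiv.ext fun y => Prod.ext (mv_el_comm H hl y.1).symm ?_
  show -(-y.2 + vz l y.1) + vz 10 (mv H l y.1) = -(-y.2 + vz 10 y.1) + vz l (mv H 10 y.1)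
  rw [vz_el, vz_el, vz_flip H hl]
  ring

theorem el_word : ∀ {W : List ℕ}, (∀ l ∈ W, l < 11) → Commute (yP H V 10) (evalWord (yP H V) W)
  | [], _ => Commute.one_right _
  | l :: W, h => (el_comm H V (h l List.mem_cons_self)).mul_right
      (el_word fun m hm => h m (List.mem_cons_of_mem _ hm))

theorem small_word : ∀ {W : List ℕ}, (∀ l ∈ W, l < 11) → ∀ {x : X}, Small x →
    Small (evalWord (mv H) W x) ∧ (evalWord (yP H V) W (x, 0)).2 = 0
  | [], _, _, hx => ⟨hx, rfl⟩
  | l :: W, h, x, hx => by
    obtain ⟨h1, h2⟩ := small_word (fun m hm => h m (List.mem_cons_of_mem _ hm)) hx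
    have hl := h l List.mem_cons_self
    refine ⟨small_mv H hl h1, ?_⟩
    show -(evalWord (yP H V) W (x, 0)).2 + vz l (evalWord (yP H V) W (x, 0)).1 = 0
    rw [h2, word_fst, vz_small hl h1, neg_zero, zero_add]

theorem base_rel {W : List ℕ} (hW : W ∈ pres.relWords) : evalWord (mv H) W = 1 := by
  rw [← Fi24.vM_word H (Lifted.letters12 W hW)]
  exact Fi24.rels_model H W hW

theorem adj_pairW (a b : ℕ) :
    Exist24.pairW a b = bif adj a b then [a, b, a, b, a, b] else [a, b, a, b] := rfl

theorem pairs_in : (List.range 10).all (fun b => (List.range b).all fun a =>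
    decide (Exist24.pairW a b ∈ pres.relWords ∨ (Exist24.pairW a b).reverse ∈ pres.relWords)) = true := by
  decide +kernel

theorem eval_rev {A : Type} [Group A] (f : ℕ → A) (hf : ∀ l, f l * f l = 1) :
    ∀ W : List ℕ, evalWord f W.reverse = (evalWord f W)⁻¹
  | [] => by simp [evalWord]
  | l :: W => by
    rw [List.reverse_cons, evalWord_append, eval_rev f hf W]
    show _ * (f l * 1) = (f l * evalWord f W)⁻¹
    rw [mul_one, mul_inv_rev, inv_eq_of_mul_eq_one_right (hf l)]

theorem conj_pairW {A : Type} [Group A] (f : ℕ → A) (hf : ∀ l, f l * f l = 1) (a b : ℕ) :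
    f a * evalWord f (Exist24.pairW a b) * f a = (evalWord f (Exist24.pairW a b))⁻¹ ∧
    f b * evalWord f (Exist24.pairW a b) * f b = (evalWord f (Exist24.pairW a b))⁻¹ := by
  have e1 : ∀ l w, f l * (f l * w) = w := fun l w => by rw [← mul_assoc, hf, one_mul]
  have hi : ∀ l, (f l)⁻¹ = f l := fun l => inv_eq_of_mul_eq_one_right (hf l)
  rw [adj_pairW]
  cases adj a b <;> simp [evalWord, mul_assoc, hi, hf, e1]

theorem of_six {A : Type} [Group A] {x y : A} (hx : x * x = 1) (hy : y * y = 1)
    (h : x * (y * (x * (y * (x * (y * 1))))) = 1) : x * y * x = y * x * y := by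
  rw [mul_one] at h
  have h1 : x * y * x * (y * x * y) = 1 := by simpa only [mul_assoc] using h
  rw [mul_eq_one_iff_eq_inv] at h1
  rw [h1, mul_inv_rev, mul_inv_rev, inv_eq_of_mul_eq_one_right hx, inv_eq_of_mul_eq_one_right hy, mul_assoc]

theorem of_four {A : Type} [Group A] {x y : A} (hx : x * x = 1) (hy : y * y = 1)
    (h : x * (y * (x * (y * 1))) = 1) : x * y = y * x := by
  rw [mul_one] at h
  have h1 : x * y * (x * y) = 1 := by simpa only [mul_assoc] using h
  rw [mul_eq_one_iff_eq_inv] at h1
  rw [h1, mul_inv_rev, inv_eq_of_mul_eq_one_right hx, inv_eq_of_mul_eq_one_right hy]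

theorem pair_rel {a b : ℕ} (hab : a < b) (hb : b < 10) : evalWord (yP H V) (Exist24.pairW a b) = 1 := by
  set w := evalWord (yP H V) (Exist24.pairW a b) with hw
  have hbase : evalWord (mv H) (Exist24.pairW a b) = 1 := by
    have h := List.all_eq_true.mp (List.all_eq_true.mp pairs_in b (List.mem_range.mpr hb)) a
      (List.mem_range.mpr hab)
    rcases of_decide_eq_true h with h | h
    · exact base_rel H h
    · have h2 := base_rel H h
      rwa [eval_rev _ (Fi24.mv_sq H), inv_eq_one] at h2
  have hlt : ∀ l ∈ Exist24.pairW a b, l < 11 := by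
    rw [adj_pairW]; cases adj a b <;> simp <;> omega
  have heven : (-1 : ZMod 3) ^ (Exist24.pairW a b).length = 1 := by
    rw [adj_pairW]; cases adj a b <;> rfl
  have hfib : ∀ x : X, w (x, 0) = (x, 0) → ∀ t, w (x, t) = (x, t) := fun x h t =>
    agree H V _ [] x (by rw [heven]; rfl) h t
  suffices ∀ i, ∀ y : Y, cd y.1 = i → w y = y from Equiv.ext fun y => this _ y rfl
  intro i
  induction i using Nat.strong_induction_on with
  | _ i ih =>
    rintro ⟨x, t⟩ hx
    have hfst : ∀ t, (w (x, t)).1 = x := fun t => by rw [hw, word_fst, hbase]; rfl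
    rcases Nat.lt_or_ge (cd x) 31672 with hs | hs
    · refine hfib x (Prod.ext (hfst 0) ?_) t
      exact (small_word H V hlt hs).2
    obtain ⟨q, hq, he | ⟨ho, he⟩⟩ := split_code H x (not_lt.mpr hs)
    swap
    · have h := ih _ (show cd (mv H 10 x) < i by change cd x = i at hx; omega)
        (yP H V 10 (x, t)) rfl
      rw [← Equiv.Perm.mul_apply, ← (el_word H V hlt).eq, Equiv.Perm.mul_apply] at h
      exact (yP H V 10).injective h
    refine hfib x ?_ t
    have hix : cd x = i := hx
    have back : ∀ l, yP H V l * w * yP H V l = w⁻¹ → cd (mv H l x) < i → w (x, 0) = (x, 0) := by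
      intro l hlw h
      have h1 := ih _ h (yP H V l (x, 0)) rfl
      have h2 : w⁻¹ (x, 0) = (x, 0) := by
        rw [← hlw, Equiv.Perm.mul_apply, Equiv.Perm.mul_apply, h1, yP_yP]
      rw [Equiv.Perm.inv_eq_iff_eq] at h2
      exact h2.symm
    have hc := conj_pairW (yP H V) (yP_sq H V) a b
    rcases Nat.lt_or_ge (cd (mv H a x)) i with ha | ha
    · exact back a hc.1 ha
    rcases Nat.lt_or_ge (cd (mv H b x)) i with hb' | hb'
    · exact back b hc.2 hb'
    have h := V.pair q hq
    rw [vpStep, forceNat_eq, forceNat_eq] at h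
    have h2 := allRange_spec h a (Nat.zero_le _) (by omega)
    rw [forceNat_eq, show Nat.add 31672 (Nat.mul 2 q) = cd x from he.symm, ← code_zero] at h2
    have nb : ∀ l, i ≤ cd (mv H l x) →
        Nat.blt (Nat.shiftRight (stepY l (code (x, (0 : ZMod 3)))) 2) (cd x) = false := fun l hl => by
      rw [code_step H, code_div]
      exact Bool.eq_false_iff.mpr fun hh =>
        absurd (show cd (mv H l x) < cd x from Nat.le_of_ble_eq_true hh) (by omega)
    rw [nb a ha, cond_false, Bool.and_eq_true] at h2
    have h3 := allRange_spec h2.2 b (by omega) (by omega)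
    rw [forceNat_eq, nb b hb', cond_false, eqPair] at h3
    have h4 := hw
    rw [adj_pairW] at h4
    cases hadj : adj a b with
    | true =>
      rw [hadj, cond_true, code_step H, code_step H, code_step H, code_step H, code_stepT H,
        code_stepT H] at h3
      rw [hadj, cond_true] at h4
      have e : yP H V a (yP H V b (yP H V a (x, 0))) = yP H V b (yP H V a (yP H V b (x, 0))) := by
        refine Prod.ext ?_ (ZMod.val_injective 3 (Nat.eq_of_beq_eq_true h3))
        have hh := hbase
        rw [adj_pairW, hadj, cond_true] at hh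
        simp only [evalWord] at hh
        exact congrArg (fun f : Equiv.Perm X => f x) (of_six (Fi24.mv_sq H a) (Fi24.mv_sq H b) hh)
      rw [h4]
      simp only [evalWord, mul_one, Equiv.Perm.mul_apply, Equiv.Perm.one_apply]
      rw [← e]
      simp only [yP_yP]
    | false =>
      rw [hadj, cond_false, code_step H, code_step H, code_stepT H, code_stepT H] at h3
      rw [hadj, cond_false] at h4
      have e : yP H V b (yP H V a (x, 0)) = yP H V a (yP H V b (x, 0)) := by
        refine Prod.ext ?_ (ZMod.val_injective 3 (Nat.eq_of_beq_eq_true h3))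
        have hh := hbase
        rw [adj_pairW, hadj, cond_false] at hh
        simp only [evalWord] at hh
        exact congrArg (fun f : Equiv.Perm X => f x) (of_four (Fi24.mv_sq H a) (Fi24.mv_sq H b) hh).symm
      rw [h4]
      simp only [evalWord, mul_one, Equiv.Perm.mul_apply, Equiv.Perm.one_apply]
      rw [← e]
      simp only [yP_yP]

theorem e7_rel : repWord e7 9 ++ [10] ∈ pres.relWords := by decide +kernel

theorem e7_lt : ∀ l ∈ e7, l < 11 := by decide

include V in
/-- At every point the relator of `E7` is regular for the potential, or short. -/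
theorem e7_cases (x : X) :
    (evalWord (yP H V) e7 (x, 0)).2 = pz x + pz (evalWord (mv H) e7 x) ∨
      evalWord (mv H) e7 (evalWord (mv H) e7 (evalWord (mv H) e7 x)) = mv H 10 x := by
  have key : ∀ q < 137632, ∀ x : X, cd x = 31672 + 2 * q →
      (evalWord (yP H V) e7 (x, 0)).2 = pz x + pz (evalWord (mv H) e7 x) ∨
        evalWord (mv H) e7 (evalWord (mv H) e7 (evalWord (mv H) e7 x)) = mv H 10 x := by
    intro q hq x he
    have h := V.eWord_ok q hq
    rw [veStep, forceNat_eq, forceNat_eq, show Nat.add 31672 (Nat.mul 2 q) = cd x from he.symm,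
      ← code_zero, code_word H V, code_dig, code_div, word_fst] at h
    cases hb : Nat.beq (evalWord (yP H V) e7 (x, 0)).2.val
        (Nat.mod (Nat.add (potE (cd x)) (potE (cd (evalWord (mv H) e7 (x, (0 : ZMod 3)).1)))) 3) with
    | true =>
      left
      have h2 := congrArg (fun n : ℕ => (n : ZMod 3)) (Nat.eq_of_beq_eq_true hb)
      simp only [ZMod.natCast_zmod_val, cast_mod3, Nat.add_eq, Nat.cast_add] at h2
      exact h2
    | false =>
      right
      rw [hb, cond_false] at h
      have h2 := Nat.eq_of_beq_eq_true h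
      rw [code_word H V, code_word H V, code_div, word_fst, word_fst, word_fst, ← cd_el' H] at h2
      exact cd_inj h2
  rcases Nat.lt_or_ge (cd x) 31672 with hs | hs
  · left
    obtain ⟨h1, h2⟩ := small_word H V e7_lt hs
    have e : ∀ z : X, Small z → pz z = 0 := fun z hz => by
      rw [pz, potE, forceNat_eq, show Nat.blt (cd z) 31672 = true from Nat.ble_eq.mpr hz, cond_true,
        Nat.cast_zero]
    rw [h2, e x hs, e _ h1, add_zero]
  obtain ⟨q, hq, he | ⟨ho, he⟩⟩ := split_code H x (not_lt.mpr hs)
  · exact key q hq x he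
  obtain ⟨x', rfl⟩ : ∃ x', x = mv H 10 x' := ⟨mv H 10 x, (el_el H x).symm⟩
  rw [el_el] at he
  have hF : ∀ z : X, evalWord (mv H) e7 (mv H 10 z) = mv H 10 (evalWord (mv H) e7 z) := fun z => by
    have h := congrArg (fun f : Equiv.Perm Y => (f (z, 0)).1) (el_word H V e7_lt).eq
    simp only [Equiv.Perm.mul_apply, yP_apply, step, word_fst] at h
    exact h.symm
  rcases key q hq x' he with h | h
  · left
    have h1 := congrArg (fun f : Equiv.Perm Y => (f (x', 0)).2) (el_word H V e7_lt).eq
    simp only [Equiv.Perm.mul_apply, yP_apply, step, vz_el, add_zero, neg_zero] at h1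
    rw [← h1, h, hF, pz_flip, pz_flip]
    ring
  · right
    rw [hF, hF, hF, h]

theorem e7_pow : evalWord (yP H V) e7 ^ 9 * yP H V 10 = 1 := by
  set F := evalWord (yP H V) e7 with hF
  set f := evalWord (mv H) e7 with hf
  have hbase : f ^ 9 * mv H 10 = 1 := by
    have h := base_rel H e7_rel
    rw [evalWord_append, evalWord_repWord] at h
    simpa [evalWord] using h
  have hf9 : ∀ x, (f ^ 9) x = mv H 10 x := fun x => by
    have h := congrArg (fun g : Equiv.Perm X => g (mv H 10 x)) hbase
    simp only [Equiv.Perm.mul_apply, Equiv.Perm.one_apply, el_el] at h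
    exact h
  have hFf : ∀ y : Y, (F y).1 = f y.1 := fun y => word_fst H V e7 y
  have hstep : ∀ x t, F (x, t) = (f x, (F (x, 0)).2 - t) := fun x t => by
    rw [hF, word_apply H V e7 x t, word_fst, show ((-1 : ZMod 3)) ^ e7.length = -1 from by decide]
    exact Prod.ext rfl (show _ + -1 * t = _ - t by ring)
  have hfel : ∀ x, f (mv H 10 x) = mv H 10 (f x) := fun x => by
    have h := congrArg (fun g : Equiv.Perm Y => (g (x, 0)).1) (el_word H V e7_lt).eq
    simp only [Equiv.Perm.mul_apply, yP_apply, step, word_fst] at h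
    exact h.symm
  suffices h : ∀ x t, (F ^ 9) (x, t) = yP H V 10 (x, t) by
    refine Equiv.ext fun y => ?_
    rw [Equiv.Perm.mul_apply, h, yP_yP]
    rfl
  intro x t
  rw [yP_apply, step, vz_el, add_zero]
  by_cases hsh : f (f (f x)) = mv H 10 x
  · have h3 : ∀ t, F (F (F (x, t))) = (mv H 10 x, (F (F (F (x, 0)))).2 - t) := fun t => by
      refine Prod.ext (by rw [hFf, hFf, hFf]; exact hsh) ?_
      rw [hstep x t, hstep x 0, hstep (f x), hstep (f x) ((F (x, 0)).2 - 0), hstep (f (f x)),
        hstep (f (f x)) ((F (f x, 0)).2 - ((F (x, 0)).2 - 0))]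
      show _ - (_ - (_ - t)) = _ - (_ - (_ - 0)) - t
      ring
    have h3' : ∀ t, F (F (F (mv H 10 x, t))) = (x, -(F (F (F (x, 0)))).2 - t) := fun t => by
      have hc := (el_word H V e7_lt).eq
      have hy : (mv H 10 x, t) = yP H V 10 (x, -t) := by rw [yP_apply, step, vz_el, add_zero, neg_neg]
      have hsw : ∀ z, F (yP H V 10 z) = yP H V 10 (F z) := fun z => by
        rw [← Equiv.Perm.mul_apply, hF, ← hc]; rfl
      rw [hy, hsw, hsw, hsw, h3, yP_apply, step, vz_el, add_zero, el_el]
      exact Prod.ext rfl (show -(_ - -t) = -_ - t by ring)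
    have h33 : ∀ z, (F ^ 9) z = F (F (F (F (F (F (F (F (F z)))))))) := fun z => rfl
    rw [h33, h3, h3', h3]
    refine Prod.ext rfl ?_
    show _ - (-_ - (_ - t)) = -t
    generalize (F (F (F (x, 0)))).2 = S
    revert S t
    decide
  · have hfix : ∀ n, f (f (f ((f ^ n) x))) ≠ mv H 10 ((f ^ n) x) := by
      intro n
      induction n with
      | zero => exact hsh
      | succ n ih =>
        intro h
        rw [pow_succ', Equiv.Perm.mul_apply, ← hfel] at h
        exact ih (f.injective h)
    have hn : ∀ n, (F ^ n) (x, t) = ((f ^ n) x, (-1) ^ n * (t - pz x) + pz ((f ^ n) x)) := by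
      intro n
      induction n with
      | zero => exact Prod.ext rfl (show t = 1 * (t - pz x) + pz x by ring)
      | succ n ih =>
        rw [pow_succ', Equiv.Perm.mul_apply, ih, hstep]
        rcases e7_cases H V ((f ^ n) x) with h | h
        · rw [hF, h, pow_succ' f, Equiv.Perm.mul_apply, pow_succ']
          exact Prod.ext rfl (show _ = -1 * (-1) ^ n * (t - pz x) + pz (f ((f ^ n) x)) by
            show pz ((f ^ n) x) + pz (f ((f ^ n) x)) - _ = _
            ring)
        · exact absurd h (hfix n)
    rw [hn, hf9, pz_flip]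
    exact Prod.ext rfl (by show _ = -t; ring)

theorem k_comm {m : ℕ} (h1 : 1 ≤ m) (h10 : m < 10) : Commute (yP H V 11) (yP H V m) := by
  have hb : ∀ x, mv H 11 (mv H m x) = mv H m (mv H 11 x) := fun x => by
    have h := congrArg (fun f : Equiv.Perm X => f x) (Exist24.k_letter H h1 h10).eq
    rw [show mv H m = gen H m from if_pos h10]
    exact h
  suffices ∀ i, ∀ y : Y, cd y.1 = i → yP H V 11 (yP H V m y) = yP H V m (yP H V 11 y) from
    Equiv.ext fun y => this _ y rfl
  intro i
  induction i using Nat.strong_induction_on with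
  | _ i ih =>
    rintro ⟨x, t⟩ hx
    change cd x = i at hx
    have hP : ∀ l z, yP H V l (yP H V l z) = z := yP_yP H V
    rcases Nat.lt_or_ge (cd (mv H 11 x)) i with hk | hk
    · have h := ih _ hk (yP H V 11 (x, t)) rfl
      rw [hP] at h
      rw [← h, hP]
    rcases Nat.lt_or_ge (cd (mv H m x)) i with hg | hg
    · have h := ih _ hg (yP H V m (x, t)) rfl
      rw [hP] at h
      rw [h, hP]
    refine agree H V [11, m] [m, 11] x rfl ?_ t
    refine Prod.ext (hb x) (ZMod.val_injective 3 ?_)
    have h := V.k_ok (cd x) (cd_lt x)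
    rw [vkStep, forceNat_eq, forceNat_eq, forceNat_eq, ← code_zero] at h
    have nb : ∀ l, i ≤ cd (mv H l x) →
        Nat.blt (Nat.shiftRight (stepY l (code (x, (0 : ZMod 3)))) 2) (cd x) = false := fun l hl => by
      rw [code_step H, code_div]
      exact Bool.eq_false_iff.mpr fun hh =>
        absurd (show cd (mv H l x) < cd x from Nat.le_of_ble_eq_true hh) (by omega)
    rw [nb 11 hk, cond_false, Bool.and_eq_true] at h
    have h2 := allRange_spec h.2 m h1 (by omega)
    rw [forceNat_eq, nb m hg, cond_false, code_step H, code_step H, code_stepT H, code_stepT H] at h2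
    exact Nat.eq_of_beq_eq_true h2

theorem root_ok : Exist24.rootL.all (fun r =>
    Nat.blt r 306936 && Nat.beq (runY [11, 10, 11] (Nat.mul 4 r)) (runY [10, 11, 10] (Nat.mul 4 r)) &&
      Nat.beq (runY [11, 0, 11] (Nat.mul 4 r)) (runY [0, 11, 0] (Nat.mul 4 r))) = true := by
  decide +kernel

theorem braid {e : ℕ} (he : e = 0 ∨ e = 10) :
    yP H V 11 * yP H V e * yP H V 11 = yP H V e * yP H V 11 * yP H V e := by
  have hcm : ∀ m, 2 ≤ m → m < 10 → Commute (yP H V e) (yP H V m) := by
    intro m h2 h10
    rcases he with rfl | rfl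
    · have h := pair_rel H V (show 0 < m by omega) h10
      rw [adj_pairW, show adj 0 m = false from
        (by decide : ∀ k < 10, 2 ≤ k → adj 0 k = false) m h10 h2] at h
      simp only [cond_false, evalWord, mul_one] at h
      refine Equiv.ext fun y => ?_
      have h2 := congrArg (fun f : Equiv.Perm Y => f (yP H V m (yP H V 0 y))) h
      simp only [Equiv.Perm.mul_apply, Equiv.Perm.one_apply, yP_yP] at h2
      exact h2
    · exact el_comm H V (by omega)
  set L := yP H V 11 * yP H V e * yP H V 11 with hL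
  set R := yP H V e * yP H V 11 * yP H V e with hR
  have hLm : ∀ m, 2 ≤ m → m < 10 → Commute L (yP H V m) ∧ Commute R (yP H V m) := fun m h2 h10 =>
    ⟨((k_comm H V (by omega) h10).mul_left (hcm m h2 h10)).mul_left (k_comm H V (by omega) h10),
      ((hcm m h2 h10).mul_left (k_comm H V (by omega) h10)).mul_left (hcm m h2 h10)⟩
  suffices ∀ x : X, ∀ t, L (x, t) = R (x, t) from Equiv.ext fun y => this y.1 y.2
  refine Exist24.forest H _ (fun m h2 h10 x hQ t => ?_) fun r hr x hx t => ?_
  · obtain ⟨hl, hr⟩ := hLm m h2 h10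
    obtain ⟨s, hs⟩ : ∃ s, (gen H m x, t) = yP H V m (x, s) :=
      ⟨-t + vz m x, Prod.ext (by show _ = mv H m x; rw [show mv H m = gen H m from if_pos h10])
        (by show t = -(-t + vz m x) + vz m x; ring)⟩
    rw [hs, ← Equiv.Perm.mul_apply, hl.eq, Equiv.Perm.mul_apply, hQ, ← Equiv.Perm.mul_apply, ← hr.eq]
    rfl
  · refine agree H V [11, e, 11] [e, 11, e] x rfl ?_ t
    have h := List.all_eq_true.mp root_ok r hr
    simp only [Bool.and_eq_true] at h
    rw [← hx, ← code_zero, code_word H V, code_word H V, code_word H V, code_word H V] at h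
    rcases he with rfl | rfl
    · exact code_inj (Nat.eq_of_beq_eq_true h.2)
    · exact code_inj (Nat.eq_of_beq_eq_true h.1.2)

/-- The rotated Coxeter word. -/
def rW : List ℕ := [11, 10] ++ mW

theorem mW_lt : ∀ l ∈ mW, l < 11 := by decide

theorem rot_pot (x : X) :
    (evalWord (yP H V) rW (x, 0)).2 = cz (evalWord (mv H) rW x) - cz x + 2 := by
  have fin : ∀ i : ℕ, i = cd x → wOK i (code (evalWord (yP H V) mW (x, 0))) = true →
      (evalWord (yP H V) rW (x, 0)).2 = cz (evalWord (mv H) rW x) - cz x + 2 := by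
    intro i hi h
    rw [wOK, forceNat_eq, forceNat_eq, code_word H V, ← Equiv.Perm.mul_apply, ← evalWord_append,
      code_dig, code_div, word_fst, hi] at h
    have h2 := congrArg (fun n : ℕ => (n : ZMod 3)) (Nat.eq_of_beq_eq_true h)
    simp only [ZMod.natCast_zmod_val, cast_mod3, Nat.add_eq, Nat.mul_eq, Nat.cast_add, Nat.cast_mul,
      Nat.cast_ofNat, two_neg] at h2
    rw [show rW = [11, 10] ++ mW from rfl, h2]
    show (potC _ : ZMod 3) + (-(potC _ : ZMod 3) + 2) = _
    unfold cz
    ring
  rcases Nat.lt_or_ge (cd x) 31672 with hs | hs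
  · have h := V.small_ok (cd x) hs
    rw [vsStep, forceNat_eq, ← code_zero, code_word H V] at h
    exact fin _ rfl h
  obtain ⟨q, hq, he | ⟨ho, he⟩⟩ := split_code H x (not_lt.mpr hs)
  · have h := V.w_ok q hq
    rw [vwStep, forceNat_eq, forceNat_eq, show Nat.add 31672 (Nat.mul 2 q) = cd x from he.symm,
      ← code_zero, code_word H V, Bool.and_eq_true] at h
    exact fin _ rfl h.1
  · have h := V.w_ok q hq
    rw [vwStep, forceNat_eq, forceNat_eq, show Nat.add 31672 (Nat.mul 2 q) = cd (mv H 10 x) from he.symm,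
      ← code_zero, code_word H V, Bool.and_eq_true] at h
    refine fin (Nat.add (cd (mv H 10 x)) 1) (by show _ + 1 = _; omega) ?_
    have e : code (evalWord (yP H V) mW (x, 0)) =
        Nat.add (Nat.mul 4 (lC (Nat.shiftRight (code (evalWord (yP H V) mW (mv H 10 x, 0))) 2)))
          (Nat.mod (Nat.mul 2 (Nat.land (code (evalWord (yP H V) mW (mv H 10 x, 0))) 3)) 3) := by
      have hx : (x, (0 : ZMod 3)) = yP H V 10 (mv H 10 x, 0) := by
        rw [yP_apply, step, el_el, vz_el, neg_zero, add_zero]
      conv_lhs => rw [hx, ← Equiv.Perm.mul_apply, ← (el_word H V mW_lt).eq, Equiv.Perm.mul_apply, yP_apply]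
      generalize evalWord (yP H V) mW (mv H 10 x, 0) = g
      rw [code_div, code_dig, step, vz_el, add_zero, code, cd_el']
      show _ = 4 * lC (cd g.1) + 2 * g.2.val % 3
      congr 1
      show (-g.2).val = _
      revert g
      exact fun g => (by decide : ∀ a : ZMod 3, (-a).val = 2 * a.val % 3) g.2
    rw [e]
    exact h.2

theorem rW_split : rW = [11, 10, 3, 4, 5, 6, 7, 3, 8, 9] ++ [3, 2, 1, 0] ∧
    cWord = [3, 2, 1, 0] ++ [11, 10, 3, 4, 5, 6, 7, 3, 8, 9] := by decide

theorem z_lift : evalWord (yP H V) zWord = tr 1 := by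
  set A : List ℕ := [3, 2, 1, 0] with hA
  set B : List ℕ := [11, 10, 3, 4, 5, 6, 7, 3, 8, 9] with hB
  have hrot : ∀ {G : Type} [Group G] (f : ℕ → G),
      evalWord f cWord ^ 17 = evalWord f A * evalWord f rW ^ 17 * (evalWord f A)⁻¹ := by
    intro G _ f
    rw [rW_split.1, rW_split.2, evalWord_append, evalWord_append, ← conj_pow]
    congr 1
    rw [← hA, ← hB]
    group
  have hz : evalWord (mv H) rW ^ 17 = 1 := by
    have h := Fi24.z_model H
    rw [show repWord [3, 2, 1, 0, 11, 10, 3, 4, 5, 6, 7, 3, 8, 9] 17 = repWord cWord 17 from rfl,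
      evalWord_repWord, hrot] at h
    rwa [mul_inv_eq_one, mul_eq_left] at h
  have hpow : ∀ (n : ℕ) (y : Y), (evalWord (yP H V) rW ^ n) y =
      ((evalWord (mv H) rW ^ n) y.1,
        y.2 + cz ((evalWord (mv H) rW ^ n) y.1) - cz y.1 + n • (2 : ZMod 3)) := by
    intro n
    induction n with
    | zero => intro y; simp
    | succ n ih =>
      intro y
      rw [pow_succ', pow_succ', Equiv.Perm.mul_apply, ih y, word_apply H V, word_fst, rot_pot,
        Equiv.Perm.mul_apply, show ((-1 : ZMod 3)) ^ rW.length = 1 from by decide]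
      refine Prod.ext rfl ?_
      simp only [succ_nsmul]
      ring
  have h17 : evalWord (yP H V) rW ^ 17 = tr 1 := Equiv.ext fun y => by
    rw [hpow, hz, tr_apply, Equiv.Perm.one_apply, show (17 : ℕ) • (2 : ZMod 3) = 1 from by decide]
    exact Prod.ext rfl (by show _ = _; ring)
  rw [zWord_eq, evalWord_repWord, hrot, h17, word_tr H V A 1,
    show ((-1 : ZMod 3)) ^ A.length * 1 = 1 from by decide, mul_inv_cancel_right]

/-- A braid relator from the braid relation. -/
theorem braid6 {A : Type} [Group A] {x y : A} (hx : x * x = 1) (hy : y * y = 1)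
    (h : x * y * x = y * x * y) : x * (y * (x * (y * (x * (y * 1))))) = 1 := by
  calc x * (y * (x * (y * (x * (y * 1))))) = (x * y * x) * (y * x * y) := by simp only [mul_assoc, mul_one]
    _ = (y * x * y) * (y * x * y) := by rw [h]
    _ = y * x * (y * y) * x * y := by simp only [mul_assoc]
    _ = y * (x * x) * y := by rw [hy]; simp only [mul_assoc, one_mul]
    _ = 1 := by rw [hx, mul_one, hy]

/-- The shapes of the relators other than the last. -/
theorem rel_shapes : pres.relWords.all (fun W => decide (W = zWord) || decide (W = repWord e7 9 ++ [10]) ||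
    decide (W ∈ Fi24.kWords) || (List.range 11).any (fun a => decide (W = [a, a]) ||
      (Nat.blt a 10 && (decide (W = [10, a, 10, a]) || decide (W = [a, 10, a, 10]) ||
        (List.range a).any fun b => decide (W = Exist24.pairW b a) ||
          decide (W = (Exist24.pairW b a).reverse))))) = true := by
  decide +kernel

theorem rels : ∀ W ∈ pres.relWords, W ≠ zWord → evalWord (yP H V) W = 1 := by
  intro W hW hne
  have h := List.all_eq_true.mp rel_shapes W hW
  simp only [Bool.or_eq_true, decide_eq_true_eq, List.any_eq_true, List.mem_range, Bool.and_eq_true] at h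
  have sq := yP_sq H V
  rcases h with ((rfl | rfl) | hk) | ⟨a, ha, rfl | ⟨ha10, (rfl | rfl) | ⟨b, hb, rfl | rfl⟩⟩⟩
  · exact absurd rfl hne
  · rw [evalWord_append, evalWord_repWord]
    simpa [evalWord] using e7_pow H V
  · simp only [Fi24.kWords, List.mem_append, List.mem_cons, List.not_mem_nil, or_false, List.mem_map,
      List.mem_range] at hk
    rcases hk with (((rfl | rfl | rfl | rfl | rfl | rfl) | ⟨j, hj, rfl⟩) | ⟨j, hj, rfl⟩)
    · simpa [evalWord] using sq 11
    · exact braid6 (sq 11) (sq 0) (braid H V (Or.inl rfl))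
    · exact braid6 (sq 0) (sq 11) (braid H V (Or.inl rfl)).symm
    · exact braid6 (sq 11) (sq 10) (braid H V (Or.inr rfl))
    · exact braid6 (sq 10) (sq 11) (braid H V (Or.inr rfl)).symm
    · exact absurd rfl hne
    · exact Fi24.comm4 (sq 11) (sq _) (k_comm H V (by omega) (by omega))
    · exact Fi24.comm4 (sq _) (sq 11) (k_comm H V (by omega) (by omega)).symm
  · simpa [evalWord] using sq a
  · exact Fi24.comm4 (sq 10) (sq a) (el_comm H V (by omega))
  · exact Fi24.comm4 (sq a) (sq 10) (el_comm H V (by omega)).symm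
  · exact pair_rel H V hb (Nat.le_of_ble_eq_true ha10)
  · rw [eval_rev _ sq, pair_rel H V hb (Nat.le_of_ble_eq_true ha10), inv_one]

/-- The lifted letters over the model. -/
noncomputable def lifted : Lifted H where
  y := yP H V
  fst _ _ _ := rfl
  sq := yP_sq H V
  inverts l _ c := step_inverts vz (sym H V) l c
  rel := rels H V
  c := 1
  c_ne := one_ne_zero
  z := z_lift H V

end Cfsg.Agent.Fi24Mult44
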